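import Cfsg.Agent.M12Order.Five
import Cfsg.Agent.Chars.Indicator

/-!
The involution classes of a simple group of order 95040.
-/

set_option autoImplicit false
set_option linter.unusedSectionVars false
set_option linter.style.haveILetI false

namespace Cfsg.Lib.M12Order

open Subgroup Cfsg.Lib.Chars Cfsg.Lib.Blocks Cfsg.Lib.Blocks.SmallOrder
open scoped ComplexConjugate _root_.Classical

universe u

variable {G : Type u} [Group G] [Fintype G]

theorem orderOf_eq_of_isConj {a b : G} (h : IsConj a b) : orderOf a = orderOf b := by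
  obtain ⟨c, rfl⟩ := isConj_iff.1 h
  exact (MulEquiv.orderOf_eq (MulAut.conj c) a).symm

theorem value_conj (χ : IrrCharacter G) {a b : G} (h : IsConj a b) : (χ : G → ℂ) a = (χ : G → ℂ) b := by
  obtain ⟨c, rfl⟩ := isConj_iff.1 h
  exact (isClassFunction_irr χ a c).symm

/-- The indicator. -/
theorem exists_indicator (χ : IrrCharacter G) : ∃ e : ℤ,
    (Nat.card G : ℂ)⁻¹ * ∑ s : G, (χ : G → ℂ) (s * s) = (e : ℂ) ∧ e.natAbs ≤ 1 ∧
      ((∃ s, ((χ : G → ℂ) s).im ≠ 0) → e = 0) := by
  rcases indicator_irr χ.2 with ⟨-, h⟩ | ⟨hre, h | ⟨h, -⟩⟩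
  · exact ⟨0, by rw [h]; simp, by simp, fun _ => rfl⟩
  · exact ⟨1, by rw [h]; simp, by simp, fun ⟨s, hs⟩ => absurd (hre s) hs⟩
  · exact ⟨-1, by rw [h]; simp, by simp, fun ⟨s, hs⟩ => absurd (hre s) hs⟩

/-- The number of square roots. -/
theorem sum_indicator (g : G) :
    ∑ χ : IrrCharacter G, ((Nat.card G : ℂ)⁻¹ * ∑ s : G, (χ : G → ℂ) (s * s)) * conj ((χ : G → ℂ) g) =
      (Nat.card {s : G // s * s = g} : ℂ) := by
  have hG : (Nat.card G : ℂ) ≠ 0 := Nat.cast_ne_zero.2 Nat.card_pos.ne'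
  simp only [Finset.mul_sum, Finset.sum_mul, mul_assoc]
  rw [Finset.sum_comm, Finset.sum_congr rfl (g := fun s : G => (Nat.card G : ℂ)⁻¹ *
      if IsConj (s * s) g then (Nat.card ↥(centralizer ({g} : Set G)) : ℂ) else 0) (fun s _ => by
    rw [← Finset.mul_sum, second_orthogonality]
    split_ifs with h
    · rw [Cfsg.Lib.M12Nse.conj_card_centralizer h]
    · rfl), ← Finset.mul_sum, ← Finset.sum_filter, Finset.sum_const, nsmul_eq_mul]
  have hcount : (Finset.univ.filter fun s : G => IsConj (s * s) g).card =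
      Nat.card {x : G // IsConj g x} * Nat.card {s : G // s * s = g} := by
    rw [← Fintype.card_subtype, ← Nat.card_eq_fintype_card]
    let f : {s : G // IsConj (s * s) g} → {x : G // IsConj g x} := fun s => ⟨s.1 * s.1, s.2.symm⟩
    have hfib : ∀ x, Nat.card {s // f s = x} = Nat.card {s : G // s * s = g} := by
      rintro ⟨x, hx⟩
      obtain ⟨c, hc⟩ := isConj_iff.1 hx
      have e1 : {s // f s = ⟨x, hx⟩} ≃ {s : G // s * s = x} :=
        { toFun := fun s => ⟨s.1.1, congrArg Subtype.val s.2⟩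
          invFun := fun s => ⟨⟨s.1, by rw [s.2]; exact hx.symm⟩, Subtype.ext s.2⟩
          left_inv := fun _ => rfl
          right_inv := fun _ => rfl }
      rw [Nat.card_congr e1]
      refine Nat.card_congr (((MulAut.conj c).toEquiv.subtypeEquiv fun s => ?_)).symm
      show s * s = g ↔ c * s * c⁻¹ * (c * s * c⁻¹) = x
      rw [show c * s * c⁻¹ * (c * s * c⁻¹) = c * (s * s) * c⁻¹ by group, ← hc]
      exact ⟨fun h => by rw [h], fun h => mul_left_cancel (mul_right_cancel h)⟩
    rw [← Nat.card_congr (Equiv.sigmaFiberEquiv f), Nat.card_sigma, Finset.sum_congr rfl fun x _ => hfib x,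
      Finset.sum_const, Finset.card_univ, smul_eq_mul, ← Nat.card_eq_fintype_card]
  rw [hcount]
  have hmul := congrArg (Nat.cast (R := ℂ)) (Cfsg.Lib.M12Nse.card_isConj_mul g)
  push_cast at hmul ⊢
  field_simp
  linear_combination (Nat.card {s : G // s * s = g} : ℂ) * hmul

theorem exists_lift {α β : Type*} [DecidableEq α] (f : α → β) : ∀ (l : List β) (s : Multiset α),
    s.map f = (l : Multiset β) → ∃ le : List α, (le : Multiset α) = s ∧ le.map f = l
  | [], s, h => ⟨[], (Multiset.map_eq_zero.1 h).symm, rfl⟩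
  | x :: l, s, h => by
    obtain ⟨a, ha, hfa⟩ := Multiset.mem_map.1 (show x ∈ s.map f by rw [h]; simp)
    obtain ⟨le, hle, hmap⟩ := exists_lift f l (s.erase a) (by
      have h2 := Multiset.cons_erase ha
      rw [← h2, Multiset.map_cons, hfa, ← Multiset.cons_coe] at h
      exact (Multiset.cons_inj_right x).1 h)
    exact ⟨a :: le, by rw [← Multiset.cons_coe, hle, Multiset.cons_erase ha], by rw [List.map_cons, hfa, hmap]⟩

theorem exists_conj_pow {y : G} (hy : orderOf y = 5)
    (hN : Nat.card ↥(normalizer (zpowers y : Set G)) = 4 * Nat.card ↥(centralizer ({y} : Set G)))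
    {i : ℕ} (hi : ¬ 5 ∣ i) : ∃ g ∈ normalizer (zpowers y : Set G), g * y * g⁻¹ = y ^ i := by
  set N := normalizer (zpowers y : Set G)
  have horb := Cfsg.Lib.MathieuEleven.ncard_conj_orbit N y
  rw [inf_eq_right.2 (centralizer_le_norm y)] at horb
  set O := Set.range fun k : N => (k : G) * y * (k : G)⁻¹
  have hO : O.ncard = 4 := Nat.eq_of_mul_eq_mul_right (Nat.card_pos (α := ↥(centralizer ({y} : Set G))))
    (horb.trans hN)
  have hsub : O ⊆ (zpowers y : Set G) \ {1} := by
    rintro _ ⟨k, rfl⟩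
    refine ⟨(Subgroup.mem_normalizer_iff.1 k.2 y).1 (mem_zpowers y), fun e => ?_⟩
    rw [Set.mem_singleton_iff] at e
    rw [conj_eq_one_iff.1 e, orderOf_one] at hy
    norm_num at hy
  have heq : O = (zpowers y : Set G) \ {1} := Set.eq_of_subset_of_ncard_le hsub (by
    rw [hO, Set.ncard_sdiff (Set.singleton_subset_iff.2 (one_mem _)), Set.ncard_singleton, ← Nat.card_coe_set_eq,
      SetLike.coe_sort_coe, Nat.card_zpowers, hy]) (Set.toFinite _)
  obtain ⟨k, hk⟩ : y ^ i ∈ O := heq ▸ ⟨pow_mem (mem_zpowers y) i, fun e =>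
    hi (hy ▸ orderOf_dvd_of_pow_eq_one (Set.mem_singleton_iff.1 e))⟩
  exact ⟨k, k.2, hk⟩

variable [IsSimpleGroup G] [Fact (Nat.Prime 11)]

namespace Blk

variable (B : Blk G)

/-- integral values at a regular element -/
structure Col (g : G) (r : Fin 4 → ℤ) (w : ℤ) (f : IrrCharacter G → ℤ) : Prop where
  regular : ¬ 11 ∣ orderOf g
  val : ∀ j, (B.c j : G → ℂ) g = (r j : ℂ)
  exc : (B.ν 1 : G → ℂ) g = (w : ℂ)
  rest : ∀ η ∈ B.rest, (η : G → ℂ) g = (f η : ℂ)

variable {B}

/-- Orthogonality of two columns. -/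
theorem Col.orth {g h : G} {r r' : Fin 4 → ℤ} {w w' : ℤ} {f f' : IrrCharacter G → ℤ}
    (P : B.Col g r w f) (Q : B.Col h r' w' f') :
    ∑ η ∈ B.rest, f η * f' η =
      (if IsConj g h then (Nat.card ↥(centralizer ({g} : Set G)) : ℤ) else 0) -
        (1 + (r 0 * r' 0 + r 1 * r' 1 + r 2 * r' 2 + r 3 * r' 3) + 2 * (w * w')) := by
  have h1 := second_orthogonality g h
  rw [B.sum_split,
    Finset.sum_congr rfl (g := fun j : Fin 4 => ((r j * r' j : ℤ) : ℂ))
      (fun j _ => by rw [P.val, Q.val, map_intCast]; push_cast; rfl),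
    Finset.sum_congr (s₁ := Finset.univ.image B.ν) rfl (g := fun _ : IrrCharacter G => ((w * w' : ℤ) : ℂ))
      (fun η hη => by rw [B.apply_exc hη P.regular, B.apply_exc hη Q.regular, P.exc, Q.exc, map_intCast]; push_cast; rfl),
    Finset.sum_congr (s₁ := B.rest) rfl (g := fun η : IrrCharacter G => ((f η * f' η : ℤ) : ℂ))
      (fun η hη => by rw [P.rest η hη, Q.rest η hη, map_intCast]; push_cast; rfl),
    Finset.sum_const, B.card_exc, oneG_apply, oneG_apply, map_one, nsmul_eq_mul, Fin.sum_univ_four,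
    ← Int.cast_sum] at h1
  apply Int.cast_injective (α := ℂ)
  split_ifs at h1 ⊢ <;> push_cast at h1 ⊢ <;> linear_combination h1

/-- The number of products of two elements of a class equal to a given element. -/
theorem Col.count_self {g : G} {r : Fin 4 → ℤ} {w : ℤ} {f : IrrCharacter G → ℤ} (P : B.Col g r w f) :
    (Nat.card {p : G × G // IsConj g p.1 ∧ IsConj g p.2 ∧ p.1 * p.2 = g} : ℂ) *
        ((Nat.card ↥(centralizer ({g} : Set G)) : ℂ) * (Nat.card ↥(centralizer ({g} : Set G)) : ℂ)) =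
      95040 * (1 + ∑ j, (r j : ℂ) * (r j : ℂ) * (r j : ℂ) / (deg (B.c j : G → ℂ) : ℂ) +
        2 * ((w : ℂ) * (w : ℂ) * (w : ℂ) / (deg (B.ν 1 : G → ℂ) : ℂ)) +
        ∑ η ∈ B.rest, (f η : ℂ) * (f η : ℂ) * (f η : ℂ) / (deg (η : G → ℂ) : ℂ)) := by
  have hmul := congrArg (Nat.cast (R := ℂ)) (Cfsg.Lib.M12Nse.card_isConj_mul g)
  push_cast at hmul
  rw [class_mult_formula g g g, B.sum_split,
    Finset.sum_congr rfl (g := fun j : Fin 4 => (r j : ℂ) * (r j : ℂ) * (r j : ℂ) / (deg (B.c j : G → ℂ) : ℂ))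
      (fun j _ => by rw [P.val, map_intCast, irr_apply_one_eq_deg]),
    Finset.sum_congr (s₁ := Finset.univ.image B.ν) rfl (g := fun _ : IrrCharacter G => (w : ℂ) * (w : ℂ) * (w : ℂ) / (deg (B.ν 1 : G → ℂ) : ℂ))
      (fun η hη => by rw [B.apply_exc hη P.regular, P.exc, map_intCast, irr_apply_one_eq_deg, B.deg_exc_eq hη]),
    Finset.sum_congr (s₁ := B.rest) rfl (g := fun η : IrrCharacter G => (f η : ℂ) * (f η : ℂ) * (f η : ℂ) / (deg (η : G → ℂ) : ℂ))
      (fun η hη => by rw [P.rest η hη, map_intCast, irr_apply_one_eq_deg]),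
    Finset.sum_const, B.card_exc, oneG_apply, oneG_apply, map_one, nsmul_eq_mul]
  rw [B.card] at hmul ⊢
  push_cast at hmul ⊢
  set K := (Nat.card {x : G // IsConj g x} : ℂ)
  set Cg := (Nat.card ↥(centralizer ({g} : Set G)) : ℂ)
  set T := 1 + ∑ j, (r j : ℂ) * (r j : ℂ) * (r j : ℂ) / (deg (B.c j : G → ℂ) : ℂ) +
        2 * ((w : ℂ) * (w : ℂ) * (w : ℂ) / (deg (B.ν 1 : G → ℂ) : ℂ)) +
        ∑ η ∈ B.rest, (f η : ℂ) * (f η : ℂ) * (f η : ℂ) / (deg (η : G → ℂ) : ℂ)
  simp only [mul_one, div_one]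
  linear_combination (T / 95040) * (K * Cg + 95040) * hmul

theorem exc_not_real {η : IrrCharacter G} (hη : η ∈ Finset.univ.image B.ν) : ((η : G → ℂ) B.x).im ≠ 0 := by
  intro him
  obtain ⟨η', hne, hset⟩ : ∃ η', η' ≠ η ∧ Finset.univ.image B.ν = {η, η'} := by
    obtain ⟨a, b, hab, hs⟩ := Finset.card_eq_two.1 B.card_exc
    rw [hs] at hη
    rcases Finset.mem_insert.1 hη with rfl | h
    · exact ⟨b, hab.symm, hs⟩
    · rw [Finset.mem_singleton.1 h]
      exact ⟨a, hab, by rw [hs, Finset.pair_comm]⟩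
  have h1 := B.sum_exc_x
  have h2 := B.sum_exc_norm
  have h3 := B.sum_exc_sq
  rw [hset, Finset.sum_pair hne.symm] at h1 h2 h3
  have him' : ((η' : G → ℂ) B.x).im = 0 := by
    have := congrArg Complex.im h1
    simp only [Complex.add_im, Complex.neg_im, Complex.intCast_im, neg_zero] at this
    linarith
  rw [Complex.conj_eq_iff_im.2 him, Complex.conj_eq_iff_im.2 him'] at h2
  rw [h2] at h3
  norm_num at h3

/-- The facts about the two classes of involutions. -/
structure Census (y u z : G) : Prop where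
  five : FiveData B y u
  z_two : orderOf z = 2
  cent_z : Nat.card ↥(centralizer ({z} : Set G)) = 192
  classes : ∀ v : G, orderOf v = 2 → IsConj u v ∨ IsConj z v
  not_square : ∀ t : G, t * t ≠ u
  roots_z : Nat.card {t : G // t * t = z} = 12
  pairs : ∃ a b : G, IsConj u a ∧ IsConj u b ∧ a * b = u
  pairs_z : 27 ≤ Nat.card {p : G × G // IsConj z p.1 ∧ IsConj z p.2 ∧ p.1 * p.2 = z}
  degs : (∃ η : IrrCharacter G, 55 ∣ deg (η : G → ℂ)) ∧ ∃ η : IrrCharacter G, 33 ∣ deg (η : G → ℂ)

/-- An involution central in a Sylow subgroup. -/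
theorem exists_central_z (B : Blk G) :
    ∃ z : G, z * z = 1 ∧ z ≠ 1 ∧ 64 ∣ Nat.card ↥(centralizer ({z} : Set G)) := by
  haveI : Fact (Nat.Prime 2) := ⟨Nat.prime_two⟩
  obtain ⟨T⟩ : Nonempty (Sylow 2 G) := inferInstance
  have hT : Nat.card ↥(T : Subgroup G) = 64 := by
    simpa using Cfsg.Lib.Small.card_sylow_of_factor T (a := 6) (m := 1485) (by rw [B.card]; norm_num) (by norm_num)
  haveI : (⊤ : Subgroup ↥(T : Subgroup G)).Normal := inferInstance
  obtain ⟨x, -, hxc, hx1⟩ := Cfsg.Lib.Small.exists_central_of_normal T.2 ⊤ (fun e => by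
    have h := congrArg (fun S : Subgroup ↥(T : Subgroup G) => Nat.card ↥S) e
    simp only [Subgroup.card_top, hT, Subgroup.card_bot] at h
    omega)
  obtain ⟨k, hk⟩ := IsPGroup.iff_orderOf.1 T.2 x
  have h2 : 2 ∣ orderOf x := by
    rcases k with _ | k
    · exact absurd (orderOf_eq_one_iff.1 hk) hx1
    · rw [hk]; exact dvd_pow_self 2 k.succ_ne_zero
  set v := x ^ (orderOf x / 2)
  have hv : orderOf (v : G) = 2 := by rw [Subgroup.orderOf_coe]; exact orderOf_pow_orderOf_div (orderOf_pos x).ne' h2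
  refine ⟨v, by rw [← pow_two]; exact orderOf_dvd_iff_pow_eq_one.1 hv.dvd, fun e => by rw [e, orderOf_one] at hv; omega, ?_⟩
  rw [← hT]
  exact Subgroup.card_dvd_of_le fun t ht => mem_centralizer_singleton_iff.2
    (congrArg Subtype.val (mem_center_iff.1 ((center ↥(T : Subgroup G)).pow_mem hxc _) ⟨t, ht⟩))

theorem restOpts_mem : ∀ k ∈ Nat.divisors 8640, k ≤ 21 → (k : ℤ) ∈
    ([18, 16, 12, 9, 8, 6, 4, 3, 2, 1, 20, 15, 10, 5] : List ℤ) := by decide +kernel

theorem wAll_spec {α : Type*} (f : α → ℤ × ℤ) (w : α → ℤ) :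
    ∀ (le : List α) (sq kw aw bw s j : ℤ), wAll (le.map f) sq kw aw bw s j = true →
      (∀ a ∈ le, (11 * (f a).1 - w a) % 4 = 0 ∧ 495 * w a % (11 * (f a).1) = 0) →
      sq + (le.map fun a => w a * w a).sum = 82 → kw + (le.map fun a => (f a).1 * w a).sum = 70 →
      aw + (le.map fun a => bal (f a).1 * w a).sum = 5 → bw + (le.map fun a => (f a).2 * w a).sum = -22 →
      0 ≤ sq → s + (le.map w).sum = 16 ∧
        1093248 ≤ j + (le.map fun a => w a * w a * w a * (8640 / (f a).1)).sum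
  | [], sq, kw, aw, bw, s, j, h, _, h1, h2, h3, h4, _ => by
    simp only [List.map_nil, List.sum_nil, add_zero] at h1 h2 h3 h4 ⊢
    simp only [wAll, List.map_nil, Bool.or_eq_true, Bool.and_eq_true, Bool.not_eq_true', decide_eq_false_iff_not,
      decide_eq_true_eq, beq_iff_eq] at h
    exact h.resolve_left (not_not.2 ⟨h1, h2, h3, h4⟩)
  | a :: le, sq, kw, aw, bw, s, j, h, hc, h1, h2, h3, h4, h0 => by
    simp only [List.map_cons, List.sum_cons] at h1 h2 h3 h4 ⊢
    have hnn : 0 ≤ (le.map fun a => w a * w a).sum := List.sum_nonneg fun x hx => by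
      obtain ⟨b, -, rfl⟩ := List.mem_map.1 hx; exact mul_self_nonneg _
    have hsq := mul_self_nonneg (w a)
    have hle : w a * w a ≤ 82 := by linarith
    have hb : -9 ≤ w a ∧ w a ≤ 9 := ⟨by nlinarith, by nlinarith⟩
    rw [List.map_cons, show f a = ((f a).1, (f a).2) from rfl, wAll, List.all_eq_true] at h
    have h' := h (w a + 9).toNat (List.mem_range.2 (by omega))
    rw [show (((w a + 9).toNat : ℕ) : ℤ) - 9 = w a by omega] at h'
    simp only [Bool.or_eq_true, Bool.not_eq_true', Bool.and_eq_false_iff, beq_eq_false_iff_ne,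
      decide_eq_false_iff_not] at h'
    obtain ⟨c1, c2⟩ := hc a List.mem_cons_self
    have hrec := h'.resolve_left (by
      rintro ((e | e) | e)
      exacts [e c1, e c2, e (by linarith)])
    have := wAll_spec f w le _ _ _ _ _ _ hrec (fun b hb => hc b (List.mem_cons_of_mem _ hb))
      (by linarith) (by linarith) (by linarith) (by linarith) (by linarith)
    exact ⟨by linarith [this.1], by linarith [this.2]⟩

set_option maxHeartbeats 2000000 in
/-- The census exists. -/
theorem exists_census (B : Blk G) : ∃ y u z, Census (B := B) y u z := by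
  obtain ⟨y, hy⟩ := exists_prime_orderOf_dvd_card' (G := G) 5 (by rw [B.card]; norm_num) (hp := ⟨by norm_num⟩)
  obtain ⟨u, F⟩ := B.exists_fiveData hy
  obtain ⟨z, hzz, hz1, h64⟩ := exists_central_z B
  obtain ⟨hCz, hzv, hzw⟩ := central_invol (B := B) F.zsp hzz hz1 h64
  have hz2 := orderOf_two hzz hz1
  have huu : u * u = 1 := by rw [← pow_two, ← F.u_two, pow_orderOf_eq_one]
  have hu1 : u ≠ 1 := fun e => by have := F.u_two; rw [e, orderOf_one] at this; omega
  have hu4 : u ^ 4 = 1 := by rw [show 4 = 2 * 2 from rfl, pow_mul, pow_two u, huu, one_pow]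
  have hyu : Commute y u := F.comm.symm
  have hy5 : y ^ 5 = 1 := by rw [← hy, pow_orderOf_eq_one]
  have ho10 : orderOf (y * u) = 10 := by rw [(orderOf_mul_five hy hyu hu4).1, F.u_two]
  obtain ⟨hdeg, hdν, hsg, hδ⟩ := deg_special (B := B) F.zsp
  -- the normaliser centralises the involution
  have hNu : ∀ g ∈ normalizer (zpowers y : Set G), g * u * g⁻¹ = u := fun g hg => by
    have heq : zpowers (y * u) = centralizer ({y} : Set G) := by
      refine Subgroup.eq_of_le_of_card_ge (zpowers_le.2 (mem_centralizer_singleton_iff.2 ?_)) ?_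
      · exact ((Commute.refl y).mul_left hyu.symm).eq
      · rw [Nat.card_zpowers, ho10, F.cent]
    have hmem : g * u * g⁻¹ ∈ zpowers (y * u) :=
      heq ▸ conj_mem_cent hg (mem_centralizer_singleton_iff.2 F.comm)
    obtain ⟨n, hn⟩ := (isOfFinOrder_of_finite (y * u)).mem_powers_iff_mem_zpowers.2 hmem
    have hn' : (y * u) ^ n = g * u * g⁻¹ := hn
    have h2 : (y * u) ^ (n * 2) = 1 := by
      rw [pow_mul, hn', pow_two, show g * u * g⁻¹ * (g * u * g⁻¹) = g * (u * u) * g⁻¹ by group, huu, mul_one,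
        mul_inv_cancel]
    have h5n : 5 ∣ n := by
      have := orderOf_dvd_of_pow_eq_one h2
      rw [ho10] at this
      omega
    obtain ⟨q, rfl⟩ := h5n
    rw [← hn', pow_mul, hyu.mul_pow, hy5, one_mul, show u ^ 5 = u by
      rw [show 5 = 4 + 1 from rfl, pow_succ, hu4, one_mul]]
    rcases Nat.even_or_odd q with ⟨m, rfl⟩ | ⟨m, rfl⟩
    · exfalso
      rw [← two_mul, ← mul_assoc, pow_mul, hyu.mul_pow, show y ^ (5 * 2) = 1 by rw [pow_mul, hy5, one_pow],
        show u ^ (5 * 2) = 1 by rw [show 5 * 2 = 2 * 5 from rfl, pow_mul, pow_two, huu, one_pow], one_mul, one_pow] at hn'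
      exact hu1 (conj_eq_one_iff.1 hn'.symm)
    · rw [pow_succ, pow_mul, pow_two, huu, one_pow, one_mul]
  have hN4 : Nat.card ↥(normalizer (zpowers y : Set G)) = 4 * Nat.card ↥(centralizer ({y} : Set G)) := by
    rw [F.norm, F.cent]
  -- rational values
  have hyint : ∀ η : IrrCharacter G, ∃ r : ℤ, (η : G → ℂ) y = (r : ℂ) := fun η => by
    haveI : NeZero 5 := ⟨by norm_num⟩
    obtain ⟨r, hr⟩ := exists_int_of_fixed η {y} (m := 5) (fun h hh => by rw [Finset.mem_singleton.1 hh, hy])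
      fun σ k hk hσ => by
        rw [Finset.sum_singleton, hσ.apply_character (isCharacter_of_irr η.2) (by rw [hy])]
        obtain ⟨g, -, hg⟩ := exists_conj_pow hy hN4 (i := k) fun hd => by
          have := Nat.eq_one_of_dvd_coprimes hk hd dvd_rfl
          norm_num at this
        exact (value_conj η (isConj_iff.2 ⟨g, hg⟩)).symm
    exact ⟨r, by rw [← hr, Finset.sum_singleton]⟩
  have hmint : ∀ η : IrrCharacter G, ∃ r : ℤ, (η : G → ℂ) (y * u) = (r : ℂ) := fun η => by
    haveI : NeZero 10 := ⟨by norm_num⟩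
    obtain ⟨r, hr⟩ := exists_int_of_fixed η {y * u} (m := 10) (fun h hh => by rw [Finset.mem_singleton.1 hh, ho10])
      fun σ k hk hσ => by
        rw [Finset.sum_singleton, hσ.apply_character (isCharacter_of_irr η.2) (by rw [ho10])]
        obtain ⟨g, hgN, hg⟩ := exists_conj_pow hy hN4 (i := k) fun hd => by
          have := Nat.eq_one_of_dvd_coprimes hk hd (by norm_num : 5 ∣ 10)
          norm_num at this
        have hodd : k % 2 = 1 := by
          rcases Nat.mod_two_eq_zero_or_one k with e | e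
          · have := Nat.eq_one_of_dvd_coprimes hk (Nat.dvd_of_mod_eq_zero e) (by norm_num : 2 ∣ 10)
            norm_num at this
          · exact e
        refine (value_conj η (isConj_iff.2 ⟨g, ?_⟩)).symm
        rw [hyu.mul_pow, show u ^ k = u by rw [← pow_mod_orderOf, F.u_two, hodd, pow_one],
          show g * (y * u) * g⁻¹ = (g * y * g⁻¹) * (g * u * g⁻¹) by group, hg, hNu g hgN]
    exact ⟨r, by rw [← hr, Finset.sum_singleton]⟩
  choose a ha using hyint
  choose c hc using hmint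
  choose b hb hb4 hblt using fun η : IrrCharacter G => B.invol_value η huu hu1
  choose w hw hw4 hwlt using fun η : IrrCharacter G => B.invol_value η hzz hz1
  choose k hk using fun (η : IrrCharacter G) (hη : η ∈ B.rest) => B.rest_dvd_deg hη
  let kk : IrrCharacter G → ℤ := fun η => ((deg (η : G → ℂ) / 11 : ℕ) : ℤ)
  have hdk : ∀ η ∈ B.rest, ((deg (η : G → ℂ) : ℕ) : ℤ) = 11 * kk η := fun η hη => by
    simp only [kk, hk η hη, Nat.mul_div_cancel_left _ (show 0 < 11 by norm_num)]
    push_cast; ring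
  -- the columns
  have P1 : B.Col 1 ![120, 54, 45, 144] 16 (fun η => (deg (η : G → ℂ) : ℤ)) :=
    ⟨by rw [orderOf_one]; norm_num, fun j => by rw [irr_apply_one_eq_deg, hdeg]; fin_cases j <;> simp,
      by rw [irr_apply_one_eq_deg, hdν]; norm_num, fun η _ => by rw [irr_apply_one_eq_deg]; norm_num⟩
  have Py : B.Col y ![0, -1, 0, -1] 1 a :=
    ⟨by rw [hy]; norm_num, F.y_val, by rw [F.y_exc]; norm_num, fun η _ => ha η⟩
  have Pu : B.Col u ![0, 6, 5, 4] 4 b :=
    ⟨regular_of_invol huu, F.u_val, by rw [F.u_exc]; norm_num, fun η _ => hb η⟩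
  have Pm : B.Col (y * u) ![0, 1, 0, -1] (-1) c :=
    ⟨regular_five hy hyu hu4, F.mul_val, by rw [F.mul_exc]; norm_num, fun η _ => hc η⟩
  have Pz : B.Col z ![-8, 6, -3, 0] 0 w :=
    ⟨regular_of_invol hzz, hzv, by rw [hzw]; norm_num, fun η _ => hw η⟩
  have hne : ∀ {g h : G}, orderOf g ≠ orderOf h → ¬ IsConj g h := fun hgh e => hgh (orderOf_eq_of_isConj e)
  have o11 := P1.orth P1
  have oyy := Py.orth Py
  have ouu := Pu.orth Pu
  have omm := Pm.orth Pm
  have ozz := Pz.orth Pz
  have o1y := P1.orth Py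
  have o1u := P1.orth Pu
  have o1m := P1.orth Pm
  have o1z := P1.orth Pz
  have oyu := Py.orth Pu
  have oym := Py.orth Pm
  have oum := Pu.orth Pm
  have oyz := Py.orth Pz
  have ouz := Pu.orth Pz
  have hnuz : ¬ IsConj u z := fun e => by
    have := Cfsg.Lib.M12Nse.conj_card_centralizer e
    rw [hCz, F.cent_u] at this
    norm_num at this
  rw [if_pos (IsConj.refl _)] at o11 oyy ouu omm ozz
  rw [if_neg (hne (by rw [orderOf_one, hy]; norm_num))] at o1y
  rw [if_neg (hne (by rw [orderOf_one, F.u_two]; norm_num))] at o1u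
  rw [if_neg (hne (by rw [orderOf_one, ho10]; norm_num))] at o1m
  rw [if_neg (hne (by rw [orderOf_one, hz2]; norm_num))] at o1z
  rw [if_neg (hne (by rw [hy, F.u_two]; norm_num))] at oyu
  rw [if_neg (hne (by rw [hy, ho10]; norm_num))] at oym
  rw [if_neg (hne (by rw [F.u_two, ho10]; norm_num))] at oum
  rw [if_neg (hne (by rw [hy, hz2]; norm_num))] at oyz
  rw [if_neg hnuz] at ouz
  have hc1 : Nat.card ↥(centralizer ({(1 : G)} : Set G)) = 95040 := by
    rw [show centralizer ({(1 : G)} : Set G) = ⊤ from eq_top_iff.2 fun g _ =>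
      mem_centralizer_singleton_iff.2 (by rw [mul_one, one_mul]), Subgroup.card_top, B.card]
  rw [hc1] at o11
  rw [F.cent] at oyy
  rw [F.cent_u] at ouu
  rw [F.cent_mul] at omm
  rw [hCz] at ozz
  -- rewrite the degrees
  have hsum1 : ∀ f : IrrCharacter G → ℤ, ∑ η ∈ B.rest, (deg (η : G → ℂ) : ℤ) * f η = 11 * ∑ η ∈ B.rest, kk η * f η :=
    fun f => by rw [Finset.mul_sum]; exact Finset.sum_congr rfl fun η hη => by rw [hdk η hη]; ring
  rw [hsum1, show ∑ η ∈ B.rest, kk η * (deg (η : G → ℂ) : ℤ) = 11 * ∑ η ∈ B.rest, kk η * kk η by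
    rw [Finset.mul_sum]; exact Finset.sum_congr rfl fun η hη => by rw [hdk η hη]; ring] at o11
  rw [hsum1] at o1y o1u o1m o1z
  simp only [show ∀ a b c d : ℤ, ![a, b, c, d] 2 = c from fun _ _ _ _ => rfl, show ∀ a b c d : ℤ, ![a, b, c, d] 3 = d from fun _ _ _ _ => rfl] at o11 oyy ouu omm ozz o1y o1u o1m o1z oyu oym oum oyz ouz
  norm_num at o11 oyy ouu omm ozz o1y o1u o1m o1z oyu oym oum oyz ouz
  -- congruences
  obtain ⟨M5, hM5⟩ := exists_isPModular (show Nat.Prime 5 by norm_num)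
  obtain ⟨M2, hM2⟩ := exists_isPModular Nat.prime_two
  have hbal : ∀ (x q : ℤ), x * x ≤ 5 → (5 : ℤ) ∣ x - q → x = bal q := fun x q hx hd => by
    have : -2 ≤ x ∧ x ≤ 2 := ⟨by nlinarith, by nlinarith⟩
    simp only [bal]
    omega
  have hle5 : ∀ (f : IrrCharacter G → ℤ), ∀ η ∈ B.rest, f η * f η ≤ ∑ η ∈ B.rest, f η * f η := fun f η hη =>
    Finset.single_le_sum (f := fun η => f η * f η) (fun _ _ => mul_self_nonneg _) hη
  have haeq : ∀ η ∈ B.rest, a η = bal (kk η) := fun η hη => by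
    refine hbal _ _ ((hle5 a η hη).trans (by linarith)) ?_
    have h := congr_five (χ := η) hy (Commute.one_right y) (by rw [orderOf_one]; norm_num) hM5
    rw [mul_one, ha, irr_apply_one_eq_deg, ← Int.cast_natCast, ← Int.cast_sub] at h
    have := (small_intCast_iff hM5 _).1 h
    rw [hdk η hη] at this
    push_cast at this
    omega
  have hceq : ∀ η ∈ B.rest, c η = bal (b η) := fun η hη => by
    refine hbal _ _ ((hle5 c η hη).trans (by linarith)) ?_
    have h := congr_five (χ := η) hy hyu (five_not_dvd_of_pow hu4) hM5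
    rw [hc, hb, ← Int.cast_sub] at h
    exact_mod_cast (small_intCast_iff hM5 _).1 h
  have hpar : ∀ η : IrrCharacter G, (2 : ℤ) ∣ c η - a η := fun η => by
    have h := small_apply_mul_sub hM2 (isCharacter_of_irr η.2) (x := u) (y := y) hyu.symm
      ⟨1, by rw [F.u_two]; norm_num⟩ (by rw [hy]; norm_num)
    rw [hyu.eq.symm, hc, ha, ← Int.cast_sub] at h
    exact_mod_cast (small_intCast_iff hM2 _).1 h
  set s : Multiset (ℤ × ℤ) := B.rest.val.map fun η => (kk η, b η) with hs
  have htot : ∀ (g : ℤ × ℤ → ℤ), (s.map g).sum = ∑ η ∈ B.rest, g (kk η, b η) := fun g => by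
    rw [hs, Multiset.map_map]; rfl
  have hk1 : ∀ η ∈ B.rest, 1 ≤ kk η := fun η hη => by
    have := hdk η hη
    have := deg_irr_pos η
    omega
  have hk450 : ∀ η ∈ B.rest, kk η * kk η ≤ 450 := fun η hη => by
    have := hle5 kk η hη
    linarith
  have hcount : B.rest.card ≤ 450 := by
    have h1 : ∑ η ∈ B.rest, (1 : ℤ) ≤ ∑ η ∈ B.rest, kk η * kk η :=
      Finset.sum_le_sum fun η hη => by nlinarith [hk1 η hη]
    simp only [Finset.sum_const, nsmul_eq_mul, mul_one] at h1
    omega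
  have hopts : ∀ p ∈ s, p ∈ restOpts := by
    intro p hp
    obtain ⟨η, hη, rfl⟩ := Multiset.mem_map.1 hp
    have hk21 : (deg (η : G → ℂ) / 11) ≤ 21 := by
      have := hk450 η hη
      have : ((deg (η : G → ℂ) / 11 : ℕ) : ℤ) ≤ 21 := by nlinarith [hk1 η hη]
      omega
    have hd8 : deg (η : G → ℂ) / 11 ∈ Nat.divisors 8640 := by
      refine Nat.mem_divisors.2 ⟨?_, by norm_num⟩
      have := IsIrrCharacter.deg_dvd η.2
      rw [hk η hη, B.card, show (95040 : ℕ) = 11 * 8640 by norm_num] at this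
      rw [hk η hη, Nat.mul_div_cancel_left _ (show 0 < 11 by norm_num)]
      exact Nat.dvd_of_mul_dvd_mul_left (by norm_num) this
    refine List.mem_flatMap.2 ⟨kk η, restOpts_mem _ hd8 hk21, List.mem_map.2 ⟨b η, ?_, rfl⟩⟩
    have hb11 : -11 ≤ b η ∧ b η ≤ 11 := by
      have h := hle5 b η hη
      rw [ouu] at h
      exact ⟨by nlinarith, by nlinarith⟩
    refine List.mem_filter.2 ⟨List.mem_map.2 ⟨(b η + 11).toNat, List.mem_range.2 (by omega), by omega⟩, ?_⟩
    simp only [Bool.and_eq_true, decide_eq_true_eq, beq_iff_eq]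
    refine ⟨⟨⟨?_, ?_⟩, ?_⟩, ?_⟩
    · rw [← hdk η hη]; exact Int.emod_eq_zero_of_dvd (hb4 η)
    · have := hblt η (fun e => by
        have := hdk η hη
        rw [e, deg_oneG] at this
        omega)
      have := hdk η hη
      omega
    · have h := dvd_class_mul (hb η)
      rw [card_class_eq, F.cent_u, B.card, hdk η hη, show ((95040 / 240 : ℕ) : ℤ) * b η = 11 * (36 * b η) by
        norm_num; ring] at h
      exact Int.emod_eq_zero_of_dvd (Int.dvd_of_mul_dvd_mul_left (by norm_num) h)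
    · rw [← haeq η hη, ← hceq η hη]
      have := hpar η
      omega
  have hsumbal : ∀ (g : ℤ → ℤ → ℤ → ℤ → ℤ), ∑ η ∈ B.rest, g (kk η) (b η) (bal (kk η)) (bal (b η)) =
      ∑ η ∈ B.rest, g (kk η) (b η) (a η) (c η) := fun g =>
    Finset.sum_congr rfl fun η hη => by rw [haeq η hη, hceq η hη]
  obtain ⟨l, hl, hls⟩ := exists_msearch (fits := restFits) (f := restOK) restOpts [] s hopts
    (fun x => (Multiset.count_le_card x s).trans (by rw [hs, Multiset.card_map]; exact hcount))
    (fun l hl => by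
      rw [Multiset.coe_nil, add_zero] at hl
      obtain ⟨t, ht⟩ := Multiset.le_iff_exists_add.1 hl
      have key : ∀ g : ℤ × ℤ → ℤ, (∀ p, 0 ≤ g p) → tot g l ≤ ∑ η ∈ B.rest, g (kk η, b η) := fun g hg => by
        rw [← htot, ht, Multiset.map_add, Multiset.sum_add, Multiset.map_coe, Multiset.sum_coe]
        exact le_add_of_nonneg_right (Multiset.sum_nonneg fun x hx => by
          obtain ⟨p, -, rfl⟩ := Multiset.mem_map.1 hx; exact hg p)
      have k1 := key (fun p => p.1 * p.1) (fun p => mul_self_nonneg _)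
      have k2 := key (fun p => bal p.1 * bal p.1) (fun p => mul_self_nonneg _)
      have k3 := key (fun p => p.2 * p.2) (fun p => mul_self_nonneg _)
      have k4 := key (fun p => bal p.2 * bal p.2) (fun p => mul_self_nonneg _)
      simp only [restFits, Bool.and_eq_true, decide_eq_true_eq]
      have e2 := hsumbal fun _ _ a _ => a * a
      have e4 := hsumbal fun _ _ _ c => c * c
      exact ⟨⟨⟨by linarith, by linarith⟩, by linarith⟩, by linarith⟩)
    (fun l hl => by
      rw [Multiset.coe_nil, add_zero] at hl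
      have key : ∀ g : ℤ × ℤ → ℤ, tot g l = ∑ η ∈ B.rest, g (kk η, b η) := fun g => by
        rw [← htot, ← hl, Multiset.map_coe, Multiset.sum_coe]; rfl
      simp only [restOK, Bool.and_eq_true, beq_iff_eq, key]
      have e2 := hsumbal fun _ _ a _ => a * a
      have e4 := hsumbal fun _ _ _ c => c * c
      have e5 := hsumbal fun k _ a _ => k * a
      have e7 := hsumbal fun k _ _ c => k * c
      have e8 := hsumbal fun _ b a _ => a * b
      have e9 := hsumbal fun _ _ a c => a * c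
      have e10 := hsumbal fun _ b _ c => b * c
      refine ⟨⟨⟨⟨⟨⟨⟨⟨⟨?_, ?_⟩, ?_⟩, ?_⟩, ?_⟩, ?_⟩, ?_⟩, ?_⟩, ?_⟩, ?_⟩ <;> linarith)
  rw [Multiset.coe_nil, add_zero] at hls
  have key : ∀ g : ℤ × ℤ → ℤ, tot g l = ∑ η ∈ B.rest, g (kk η, b η) := fun g => by
    rw [← htot, ← hls, Multiset.map_coe, Multiset.sum_coe]; rfl
  have hnum := rest_num
  simp only [List.all_eq_true, Bool.or_eq_true, Bool.and_eq_true, decide_eq_true_eq, beq_iff_eq, key] at hnum
  have hsl := hnum l hl
  clear hnum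
  have hgr := rest_graph_num
  simp only [List.all_eq_true, List.any_eq_true, Bool.or_eq_true, Bool.and_eq_true, decide_eq_true_eq, beq_iff_eq,
    key] at hgr
  have hgl := hgr l hl
  simp only [key] at hgl
  clear hgr
  simp only [key] at hsl
  -- the indicators
  choose e he hele he0 using fun η : IrrCharacter G => exists_indicator η
  have hroots : ∀ g : G, g * g = 1 → ∀ (r : Fin 4 → ℤ) (we : ℤ) (f : IrrCharacter G → ℤ), B.Col g r we f →
      (Nat.card {t : G // t * t = g} : ℤ) = e (oneG G) + (∑ j, e (B.c j) * r j) + ∑ η ∈ B.rest, e η * f η := by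
    intro g hg r we f P
    apply Int.cast_injective (α := ℂ)
    have h := sum_indicator g
    rw [B.sum_split,
      Finset.sum_congr rfl (g := fun j : Fin 4 => ((e (B.c j) * r j : ℤ) : ℂ))
        (fun j _ => by rw [he, P.val, map_intCast]; push_cast; rfl),
      Finset.sum_eq_zero (s := Finset.univ.image B.ν)
        (fun η hη => by rw [he, he0 η ⟨B.x, exc_not_real hη⟩, Int.cast_zero, zero_mul]),
      Finset.sum_congr (s₁ := B.rest) rfl (g := fun η : IrrCharacter G => ((e η * f η : ℤ) : ℂ))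
        (fun η hη => by rw [he, P.rest η hη, map_intCast]; push_cast; rfl),
      he, oneG_apply, map_one, mul_one, ← Int.cast_sum, ← Int.cast_sum] at h
    push_cast at h ⊢
    linear_combination -h
  have r1 := hroots 1 (one_mul 1) _ _ _ P1
  have ru := hroots u huu _ _ _ Pu
  have rz := hroots z hzz _ _ _ Pz
  have hD : ∑ η ∈ B.rest, (deg (η : G → ℂ) : ℤ) = 11 * ∑ η ∈ B.rest, kk η := by
    rw [Finset.mul_sum]; exact Finset.sum_congr rfl hdk
  have hle1 : ∀ η : IrrCharacter G, ∀ d : ℕ, e η * (d : ℤ) ≤ (d : ℤ) := fun η d => by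
    have := hele η
    nlinarith [show e η ≤ 1 by omega]
  -- the two classes
  set U := {x : G | IsConj u x}
  set Z := {x : G | IsConj z x}
  set T := {t : G | t * t = 1}
  have hU : U.ncard = 396 := by
    rw [← Nat.card_coe_set_eq]
    exact (card_class_eq u).trans (by rw [B.card, F.cent_u])
  have hZ : Z.ncard = 495 := by
    rw [← Nat.card_coe_set_eq]
    exact (card_class_eq z).trans (by rw [B.card, hCz])
  have hsqc : ∀ {v x : G}, v * v = 1 → IsConj v x → x * x = 1 := fun {v x} hv hx => by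
    obtain ⟨g, rfl⟩ := isConj_iff.1 hx
    rw [show g * v * g⁻¹ * (g * v * g⁻¹) = g * (v * v) * g⁻¹ by group, hv, mul_one, mul_inv_cancel]
  have hdisj : Disjoint U Z := Set.disjoint_left.2 fun x h1 h2 => hnuz (h1.trans h2.symm)
  have hone : (1 : G) ∉ U ∪ Z := by
    rintro (h | h)
    · exact hu1 (isConj_one_left.1 h)
    · exact hz1 (isConj_one_left.1 h)
  have hsub : insert 1 (U ∪ Z) ⊆ T := by
    rintro x (rfl | h | h)
    exacts [one_mul 1, hsqc huu h, hsqc hzz h]
  have h892 : (insert 1 (U ∪ Z)).ncard = 892 := by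
    rw [Set.ncard_insert_of_notMem hone (Set.toFinite _), Set.ncard_union_eq hdisj (Set.toFinite _) (Set.toFinite _),
      hU, hZ]
  have hTge := h892 ▸ Set.ncard_le_ncard hsub (Set.toFinite _)
  have hT : T.ncard = Nat.card {t : G // t * t = 1} := (Nat.card_coe_set_eq T).symm
  have hgen : ∀ η ∈ B.rest, e η * (deg (η : G → ℂ) : ℤ) ≤ (deg (η : G → ℂ) : ℤ) := fun η _ => hle1 η _
  have hrestle := Finset.sum_le_sum hgen
  have hc4 : ∀ j, e (B.c j) ≤ 1 := fun j => by have := hele (B.c j); omega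
  have he1 : e (oneG G) ≤ 1 := by have := hele (oneG G); omega
  simp only [Fin.sum_univ_four, show ∀ a b c d : ℤ, ![a, b, c, d] 0 = a from fun _ _ _ _ => rfl,
    show ∀ a b c d : ℤ, ![a, b, c, d] 1 = b from fun _ _ _ _ => rfl,
    show ∀ a b c d : ℤ, ![a, b, c, d] 2 = c from fun _ _ _ _ => rfl,
    show ∀ a b c d : ℤ, ![a, b, c, d] 3 = d from fun _ _ _ _ => rfl] at r1 ru rz
  have hk48 := hsl.resolve_left fun hbad => by
    have := hc4 0; have := hc4 1; have := hc4 2; have := hc4 3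
    omega
  obtain ⟨⟨⟨h48, hb16⟩, hY⟩, hwall⟩ := hk48
  obtain ⟨⟨p5, hp5, h5⟩, p3, hp3, h3⟩ := hgl.resolve_left (by omega)
  have hdeg_of : ∀ (q : ℤ × ℤ) (r : ℕ), q ∈ l → q.1 % (r : ℤ) = 0 → ∃ η : IrrCharacter G, 11 * r ∣ deg (η : G → ℂ) := by
    intro q r hq hr
    have hq' : q ∈ s := by rw [← hls]; exact hq
    obtain ⟨η, hη, rfl⟩ := Multiset.mem_map.1 hq'
    refine ⟨η, Int.natCast_dvd_natCast.1 ?_⟩
    rw [hdk η hη, Nat.cast_mul]
    exact mul_dvd_mul_left _ (Int.dvd_of_emod_eq_zero hr)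
  have hdegs := And.intro (hdeg_of p5 5 hp5 h5) (hdeg_of p3 3 hp3 h3)
  have := hc4 0
  have := hc4 1
  have := hc4 2
  have := hc4 3
  have hTeq : T.ncard = 892 := by omega
  have heall : e (oneG G) = 1 ∧ (∀ j, e (B.c j) = 1) ∧ ∀ η ∈ B.rest, e η = 1 := by
    have hrest : ∑ η ∈ B.rest, e η * (deg (η : G → ℂ) : ℤ) = ∑ η ∈ B.rest, (deg (η : G → ℂ) : ℤ) := by omega
    refine ⟨by omega, fun j => by fin_cases j <;> simp <;> omega, fun η hη => ?_⟩
    have := (Finset.sum_eq_sum_iff_of_le hgen).1 hrest η hη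
    exact Int.eq_one_of_mul_eq_self_left (by have := deg_irr_pos η; omega) this
  obtain ⟨he1', hec, herest⟩ := heall
  rw [he1', Finset.sum_congr rfl fun η hη => by rw [herest η hη, one_mul], hec, hec, hec, hec] at ru rz
  obtain ⟨le, hle, hmap⟩ := exists_lift (fun η => (kk η, b η)) l B.rest.val (by rw [hls])
  rw [← hmap] at hwall
  have hsumle : ∀ g : IrrCharacter G → ℤ, (le.map g).sum = ∑ η ∈ B.rest, g η := fun g => by
    rw [← Multiset.sum_coe, ← Multiset.map_coe, hle]; rfl
  have hmemle : ∀ η ∈ le, η ∈ B.rest := fun η hη => by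
    rw [← Finset.mem_val, ← hle]; exact hη
  have haw : ∑ η ∈ B.rest, bal (kk η) * w η = ∑ η ∈ B.rest, a η * w η :=
    Finset.sum_congr rfl fun η hη => by rw [haeq η hη]
  have hd8 : ∀ η ∈ B.rest, kk η ∣ (8640 : ℤ) := fun η hη => by
    have := IsIrrCharacter.deg_dvd η.2
    rw [B.card] at this
    have h := Int.natCast_dvd_natCast.2 this
    rw [hdk η hη, show ((95040 : ℕ) : ℤ) = 11 * 8640 by norm_num] at h
    exact Int.dvd_of_mul_dvd_mul_left (by norm_num) h
  obtain ⟨hW, hJ⟩ := wAll_spec (fun η => (kk η, b η)) w le 0 0 0 0 0 0 hwall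
    (fun η hη => by
      have hη' := hmemle η hη
      refine ⟨by rw [← hdk η hη']; exact Int.emod_eq_zero_of_dvd (hw4 η), ?_⟩
      have h := dvd_class_mul (hw η)
      rw [card_class_eq, hCz, B.card, hdk η hη'] at h
      exact Int.emod_eq_zero_of_dvd h)
    (by rw [hsumle]; linarith) (by rw [hsumle]; linarith) (by rw [hsumle]; linarith) (by rw [hsumle]; linarith) le_rfl
  rw [hsumle] at hW hJ
  have hcube : ∀ (r : IrrCharacter G → ℤ), ∀ η ∈ B.rest, (r η : ℂ) * (r η : ℂ) * (r η : ℂ) / (deg (η : G → ℂ) : ℂ) =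
      ((r η * r η * r η * (8640 / kk η) : ℤ) : ℂ) / 95040 := fun r η hη => by
    have hk0 : (kk η : ℂ) ≠ 0 := Int.cast_ne_zero.2 (by have := hk1 η hη; omega)
    have hcd : ((deg (η : G → ℂ) : ℕ) : ℂ) = 11 * (kk η : ℂ) := by exact_mod_cast congrArg (Int.cast (R := ℂ)) (hdk η hη)
    rw [hcd, Int.cast_mul, Int.cast_div (hd8 η hη) hk0]
    push_cast
    field_simp
    ring
  refine ⟨y, u, z, F, hz2, hCz, fun v hv => ?_, fun t ht => ?_, ?_, ?_, ?_, hdegs⟩
  · have hmem : v ∈ T := by
      show v * v = 1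
      rw [← pow_two, ← hv, pow_orderOf_eq_one]
    rw [← Set.eq_of_subset_of_ncard_le hsub (by rw [h892, hTeq]) (Set.toFinite _)] at hmem
    rcases hmem with rfl | h
    · rw [orderOf_one] at hv; omega
    · exact h
  · have hpos : 0 < Nat.card {t : G // t * t = u} := Nat.card_pos_iff.2 ⟨⟨⟨t, ht⟩⟩, inferInstance⟩
    have hb' : B.rest.sum b = -16 := hb16
    omega
  · -- the values on the central involution
    have hw' : (0 : ℤ) + B.rest.sum w = 16 := hW
    omega
  · -- pairs
    have h := Pu.count_self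
    rw [F.cent_u, Fin.sum_univ_four, hdeg, hdeg, hdeg, hdeg, hdν, Finset.sum_congr rfl (hcube b),
      ← Finset.sum_div, ← Int.cast_sum, hY] at h
    generalize hN : Nat.card {p : G × G // IsConj u p.1 ∧ IsConj u p.2 ∧ p.1 * p.2 = u} = N at h
    norm_num [Matrix.cons_val_two, Matrix.cons_val_three, Matrix.cons_val] at h
    have hpos : 0 < Nat.card {p : G × G // IsConj u p.1 ∧ IsConj u p.2 ∧ p.1 * p.2 = u} := by
      rw [hN]
      rcases Nat.eq_zero_or_pos N with e0 | e0
      · rw [e0] at h; norm_num at h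
      · exact e0
    obtain ⟨⟨⟨a', b'⟩, h1, h2, h3⟩⟩ := (Nat.card_pos_iff.1 hpos).1
    exact ⟨a', b', h1, h2, h3⟩
  · have h := Pz.count_self
    rw [hCz, Fin.sum_univ_four, hdeg, hdeg, hdeg, hdeg, hdν, Finset.sum_congr rfl (hcube w),
      ← Finset.sum_div, ← Int.cast_sum] at h
    generalize hN : Nat.card {p : G × G // IsConj z p.1 ∧ IsConj z p.2 ∧ p.1 * p.2 = z} = N at h
    generalize hJv : ∑ η ∈ B.rest, w η * w η * w η * (8640 / kk η) = J at h hJ
    norm_num [Matrix.cons_val_two, Matrix.cons_val_three, Matrix.cons_val] at h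
    have h' : (N : ℤ) * 36864 = 12672 + J := by
      apply Int.cast_injective (α := ℂ)
      push_cast
      linear_combination h
    omega

end Blk

end Cfsg.Lib.M12Order
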