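import Cfsg.Agent.M12Order.Tables
import Cfsg.Agent.Small.DegreeGraph.Core
import Cfsg.Agent.Small.Toolkit
import Cfsg.Agent.Recognition.MathieuEleven.Basic
import Cfsg.Agent.M12Nse.Facts

/-!
The Sylow 11-subgroups of a simple group of order 95040.
-/

set_option autoImplicit false
set_option linter.unusedSectionVars false
set_option linter.style.haveILetI false

namespace Cfsg.Lib.M12Order

open Subgroup Cfsg.Lib.Chars Cfsg.Lib.Blocks Cfsg.Lib.Blocks.SmallOrder Cfsg.Lib.Blocks.SylowCount
  Cfsg.Lib.Blocks.DegreeEquation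

universe u

variable {G : Type u} [Group G] [Finite G] [IsSimpleGroup G] (hG : Nat.card G = 95040)

local instance fact_eleven : Fact (Nat.Prime 11) := ⟨by norm_num⟩

include hG

theorem not_comm : ¬ ∀ a b : G, a * b = b * a :=
  Cfsg.Lib.Small.not_comm_of_isSimple (by rw [hG]; norm_num)

/-- A proper subgroup has index above eleven. -/
theorem index_ge {H : Subgroup G} (hH : H ≠ ⊤) : 11 ≤ H.index := by
  by_contra! hlt
  have h := Cfsg.Lib.Small.two_mul_card_dvd_index_factorial (not_comm hG) H hH
  rw [hG] at h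
  have h11 : 11 ∣ H.index.factorial := (dvd_mul_of_dvd_right (by norm_num) _).trans h
  have := (Nat.Prime.dvd_factorial (by norm_num : Nat.Prime 11)).1 h11
  omega

/-- The normaliser of a nontrivial proper subgroup is proper. -/
theorem normalizer_ne_top {H : Subgroup G} (h1 : H ≠ ⊥) (h2 : H ≠ ⊤) :
    normalizer (H : Set G) ≠ ⊤ := fun e => by
  haveI := Subgroup.normalizer_eq_top_iff.1 e
  rcases IsSimpleGroup.eq_bot_or_eq_top_of_normal H inferInstance with h | h
  exacts [h1 h, h2 h]

theorem card_sylow_eleven : Nat.card (Sylow 11 G) = 1728 := by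
  classical
  have := Fintype.ofFinite G
  have hnc := not_comm hG
  haveI : Fact (Nat.Prime 3) := ⟨Nat.prime_three⟩
  obtain ⟨P⟩ : Nonempty (Sylow 11 G) := inferInstance
  obtain ⟨h1, h2⟩ := Cfsg.Lib.Small.sylow_facts P (a := 1) (m := 8640) (by rw [hG]; norm_num) (by norm_num)
  have hchk := checkN_card_sylow (Cfsg.Lib.Small.DegreeGraph.not_isCyclic_of_not_comm hnc) 11 8640 309
    (by rw [hG]) (by norm_num) (by norm_num)
  refine (sylow_eleven_num _ (Nat.mem_divisors.2 ⟨h1, by norm_num⟩) h2 hchk).resolve_left fun h144 => ?_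
  obtain ⟨C, hC, hP, hidx, hm, he2⟩ :=
    Cfsg.Lib.Small.DegreeGraph.exists_core hnc (m := 8640) (by rw [hG]) (by norm_num) P
  rw [hidx, h144] at hm
  have hev : eC C * Nat.card C.V = 60 := by omega
  have hed : eC C ∈ Nat.divisors 10 := Nat.mem_divisors.2 ⟨eC_dvd C, by norm_num⟩
  have he : eC C = 10 := by
    by_contra hne
    have h := inertia_num _ hed he2 ⟨_, hev.symm⟩ hne
    obtain ⟨M, hM⟩ := exists_isPModular (Fact.out : Nat.Prime 11)
    obtain ⟨ν, δ, hD⟩ := C.exists_orbitData hM C.oneV
    obtain ⟨a, l, hlen, hsum, ha, hl⟩ := degree_equation hC hM hD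
    rw [hG, hidx, h144] at ha hl
    have hv : 60 / eC C = Nat.card C.V := by
      rw [← hev, Nat.mul_div_cancel_left _ (by omega)]
    rw [hv, List.all_eq_true] at h
    have h3 := h l.sum (by
      rw [show eC C - 1 = l.length by omega]
      exact sum_mem_sums l fun z hz => mem_terms (by norm_num) (hl z hz).1 (hl z hz).2)
    simp only [Bool.not_eq_true', hsum] at h3
    rw [List.contains_iff_mem.2 (mem_terms (by norm_num) ha.1 ha.2)] at h3
    exact Bool.noConfusion h3
  have hV : Nat.card C.V = 6 := by rw [he] at hev; omega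
  -- an element of order three centralising the Sylow subgroup
  obtain ⟨w0, hw0⟩ := exists_prime_orderOf_dvd_card' (G := C.V) 3 (by rw [hV]; norm_num)
  set w : G := ((w0 : C.H) : G)
  have hw : orderOf w = 3 := by
    rw [show w = ((w0 : C.H) : G) from rfl, Subgroup.orderOf_coe, Subgroup.orderOf_coe, hw0]
  set W := zpowers w
  have hWc : Nat.card ↥W = 3 := by rw [Nat.card_zpowers, hw]
  have hnorm : normalizer (zpowers C.y : Set G) ≤ normalizer (W : Set G) := by
    intro g hg
    obtain ⟨i, k, hk, rfl⟩ := C.decomp g hg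
    refine mul_mem ?_ ?_
    · refine centralizer_le_normalizer _ (mem_centralizer_iff.2 fun b hb => ?_)
      obtain ⟨n, rfl⟩ := mem_zpowers_iff.1 hb
      have h := C.commute_V w0 1
      rw [C.yP_one] at h
      exact ((h.zpow_left n).pow_right i).eq
    · refine Cfsg.Lib.MathieuEleven.mem_normalizer_zpowers ?_
      have hmem : (⟨k, hk⟩ : C.H) * (w0 : C.H) * (⟨k, hk⟩ : C.H)⁻¹ ∈ C.V :=
        (MonoidHom.normal_ker C.act).conj_mem _ w0.2 _
      haveI := Fintype.ofFinite C.V
      have hS : Nat.card (Sylow 3 C.V) = 1 := by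
        obtain ⟨S⟩ : Nonempty (Sylow 3 C.V) := inferInstance
        obtain ⟨s1, s2⟩ := Cfsg.Lib.Small.sylow_facts S (a := 1) (m := 2) (by rw [hV]; norm_num) (by norm_num)
        rcases (Nat.dvd_prime Nat.prime_two).1 s1 with e | e
        · exact e
        · omega
      have hord : orderOf (⟨_, hmem⟩ : C.V) = 3 := by
        rw [← Subgroup.orderOf_coe]
        show orderOf (MulAut.conj (⟨k, hk⟩ : C.H) (w0 : C.H)) = 3
        rw [MulEquiv.orderOf_eq, Subgroup.orderOf_coe, hw0]
      have hin : (⟨_, hmem⟩ : C.V) ∈ zpowers w0 := by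
        haveI : Subsingleton (Sylow 3 C.V) := (Nat.card_eq_one_iff_unique.1 hS).1
        have hS3 : ∀ Q : Sylow 3 C.V, Nat.card ↥(Q : Subgroup C.V) = 3 := fun Q => by
          simpa using Cfsg.Lib.Small.card_sylow_of_factor Q (a := 1) (m := 2) (by rw [hV]; norm_num) (by norm_num)
        obtain ⟨Q, hQ⟩ := (IsPGroup.of_card (p := 3) (n := 1) (by rw [Nat.card_zpowers, hw0, pow_one]) :
          IsPGroup 3 ↥(zpowers w0)).exists_le_sylow
        obtain ⟨Q', hQ'⟩ := (IsPGroup.of_card (p := 3) (n := 1) (by rw [Nat.card_zpowers, hord, pow_one]) :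
          IsPGroup 3 ↥(zpowers (⟨_, hmem⟩ : C.V))).exists_le_sylow
        rw [Subsingleton.elim Q' Q] at hQ'
        have := (Subgroup.eq_of_le_of_card_ge hQ (by rw [hS3, Nat.card_zpowers, hw0]))
        rw [← this] at hQ'
        exact hQ' (mem_zpowers _)
      obtain ⟨n, hn⟩ := mem_zpowers_iff.1 hin
      refine mem_zpowers_iff.2 ⟨n, ?_⟩
      have := congrArg (fun v : C.V => ((v : C.H) : G)) hn
      simpa [w] using this
  -- the normaliser of the subgroup of order three
  have hPle : (P : Subgroup G) ≤ normalizer (W : Set G) := by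
    rw [← hP]
    exact le_normalizer.trans hnorm
  have hN660 : Nat.card ↥(normalizer (zpowers C.y : Set G)) = 660 := by
    rw [Cfsg.Lib.Blocks.HalfDegree.card_normalizer_eq, card_H C, hev]
  have hcount := Cfsg.Lib.MathieuEleven.sylow_count (normalizer (W : Set G)) hPle (n := 1)
    (by simpa using Cfsg.Lib.Small.card_sylow_of_factor P (a := 1) (m := 8640) (by rw [hG]; norm_num) (by norm_num))
    (fun hd => by
      have := hd.trans (card_subgroup_dvd_card _)
      rw [hG] at this
      norm_num at this)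
  rw [← hP, inf_eq_right.2 hnorm, hN660] at hcount
  set N := normalizer (W : Set G)
  set k := Nat.card (Sylow 11 ↥N)
  obtain ⟨hk, hk1⟩ := hcount
  have hNtop : N ≠ ⊤ := normalizer_ne_top hG
    (fun e => by rw [e, Subgroup.card_bot] at hWc; omega)
    (fun e => by rw [e, Subgroup.card_top, hG] at hWc; omega)
  have hidxN := index_ge hG hNtop
  have hmul := N.card_mul_index
  rw [hG, ← hk] at hmul
  have hk144 : k ∣ 144 := ⟨N.index, by nlinarith [hmul]⟩
  have hlist : ∀ k ∈ Nat.divisors 144, k % 11 = 1 → k = 1 ∨ k = 12 ∨ k = 144 := by decide +kernel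
  rcases hlist k (Nat.mem_divisors.2 ⟨hk144, by norm_num⟩) hk1 with e | e | e
  · -- a Sylow three-subgroup normalises more
    have h9 : 3 ^ (1 + 1) ∣ Nat.card ↥N :=
      Sylow.prime_pow_dvd_card_normalizer (by rw [hG]; norm_num) (by rw [hWc, pow_one])
    rw [← hk, e] at h9
    norm_num at h9
  · -- index twelve
    have hi12 : N.index = 12 := by rw [e] at hmul; omega
    obtain ⟨f, hf⟩ : ∃ f : G →* alternatingGroup (Fin 12), Function.Injective f :=
      hi12 ▸ Cfsg.Lib.Small.exists_hom_alternating_index hnc N hNtop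
    set σ : Equiv.Perm (Fin 12) := (f C.y : Equiv.Perm (Fin 12))
    have hσ : orderOf σ = 11 := by
      rw [show σ = (f C.y : Equiv.Perm (Fin 12)) from rfl, Subgroup.orderOf_coe, orderOf_injective f hf, C.order]
    have hct : σ.cycleType = {11} := by
      obtain ⟨n, hn⟩ := Equiv.Perm.cycleType_prime_order (σ := σ) (hσ ▸ (by norm_num))
      rw [hσ] at hn
      have hsum := Equiv.Perm.sum_cycleType σ
      have hle := Finset.card_le_univ σ.support
      rw [hn, Multiset.sum_replicate, smul_eq_mul] at hsum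
      rw [Fintype.card_fin] at hle
      obtain rfl : n = 0 := by omega
      exact hn
    have h66 : 66 ≤ Nat.card ↥(centralizer ({σ} : Set (Equiv.Perm (Fin 12)))) := by
      have hcs : Nat.card ↥C.Cs = 66 := by rw [C.card_Cs, hV]
      rw [← hcs]
      refine Nat.card_le_card_of_injective
        (fun g => ⟨(f g.1 : Equiv.Perm (Fin 12)), mem_centralizer_singleton_iff.2 ?_⟩) ?_
      · show ((f g.1 : Equiv.Perm (Fin 12))) * σ = σ * _
        rw [← Subgroup.coe_mul, ← map_mul, mem_centralizer_singleton_iff.1 g.2, map_mul, Subgroup.coe_mul]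
      · intro a b h
        have h' := congrArg Subtype.val h
        exact Subtype.ext (hf (Subtype.ext h'))
    rw [Equiv.Perm.nat_card_centralizer, hct, Fintype.card_fin] at h66
    norm_num at h66
  · rw [e] at hmul
    omega

theorem card_sylow_eq (P : Sylow 11 G) : Nat.card ↥(P : Subgroup G) = 11 := by
  simpa using Cfsg.Lib.Small.card_sylow_of_factor P (a := 1) (m := 8640) (by rw [hG]; norm_num) (by norm_num)

/-- The centraliser of an element of order eleven. -/
theorem cent_eleven {x : G} (hx : orderOf x = 11) :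
    Nat.card ↥(centralizer ({x} : Set G)) = 11 := by
  classical
  have := Fintype.ofFinite G
  obtain ⟨P, hP⟩ := Cfsg.Lib.M12Nse.exists_sylow_zpowers (card_sylow_eq hG) hx
  obtain ⟨C, hC, hy, hidx, hm, he2⟩ := Cfsg.Lib.Small.DegreeGraph.exists_core (not_comm hG) (m := 8640)
    (by rw [hG]) (by norm_num) P
  rw [hidx, card_sylow_eleven hG] at hm
  have hev : eC C * Nat.card C.V = 5 := by omega
  have hV : Nat.card C.V = 1 := by
    rcases (Nat.dvd_prime (by norm_num : Nat.Prime 5)).1 (show eC C ∣ 5 from ⟨_, hev.symm⟩) with e | e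
    · omega
    · rw [e] at hev; omega
  have h1 := Cfsg.Lib.Small.DegreeGraph.card_centralizer_y C hV
  rw [← Subgroup.centralizer_closure, ← Subgroup.zpowers_eq_closure, hy, hP, Subgroup.zpowers_eq_closure,
    Subgroup.centralizer_closure] at h1
  exact h1

/-- Nothing else centralises an element of order eleven. -/
theorem eleven_not_dvd {g : G} (hg : g ≠ 1) (hg11 : ¬ 11 ∣ orderOf g) :
    ¬ 11 ∣ Nat.card ↥(centralizer ({g} : Set G)) := fun hd => by
  obtain ⟨⟨x, hx⟩, hxo⟩ := exists_prime_orderOf_dvd_card' (G := ↥(centralizer ({g} : Set G))) 11 hd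
  rw [← Subgroup.orderOf_coe] at hxo
  have hmem : g ∈ centralizer ({x} : Set G) :=
    mem_centralizer_singleton_iff.2 (mem_centralizer_singleton_iff.1 hx).symm
  have h1 := Subgroup.orderOf_dvd_natCard _ hmem
  rw [cent_eleven hG hxo] at h1
  rcases (Nat.dvd_prime (by norm_num : Nat.Prime 11)).1 h1 with e | e
  · exact hg (orderOf_eq_one_iff.1 e)
  · exact hg11 (e ▸ dvd_rfl)

theorem centralizer_dvd {g : G} (hg : g ≠ 1) (hg11 : ¬ 11 ∣ orderOf g) :
    Nat.card ↥(centralizer ({g} : Set G)) ∣ 8640 := by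
  have h := card_subgroup_dvd_card (centralizer ({g} : Set G))
  rw [hG, show (95040 : ℕ) = 11 * 8640 by norm_num] at h
  exact ((Nat.Prime.coprime_iff_not_dvd (by norm_num)).2 (eleven_not_dvd hG hg hg11)).symm.dvd_of_dvd_mul_left h

end Cfsg.Lib.M12Order
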