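import Cfsg.Agent.M12Order.Block
import Cfsg.Agent.Chars.ThreePrimes.Simple
import Cfsg.Agent.Chars.DefectZero

/-!
Identities for the values on regular elements.
-/

set_option autoImplicit false
set_option linter.unusedSectionVars false
set_option linter.style.haveILetI false

namespace Cfsg.Lib.M12Order

open Cfsg.Lib.Chars Cfsg.Lib.Blocks Cfsg.Lib.Blocks.SmallOrder
open scoped ComplexConjugate _root_.Classical

universe u

variable {G : Type u} [Group G] [Fintype G]

/-- A subgroup acting without fixed points on the products divides their number. -/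
theorem dvd_card_pairs {a b c : G}
    (hfree : ∀ g : G, g * c = c * g → ∀ a', IsConj a a' → g * a' = a' * g → g = 1) :
    Nat.card ↥(Subgroup.centralizer ({c} : Set G)) ∣
      Nat.card {w : G × G // IsConj a w.1 ∧ IsConj b w.2 ∧ w.1 * w.2 = c} := by
  set K := Subgroup.centralizer ({c} : Set G)
  set W := {w : G × G // IsConj a w.1 ∧ IsConj b w.2 ∧ w.1 * w.2 = c}
  have hcj : ∀ {a x : G} (g : G), IsConj a x → IsConj a (g * x * g⁻¹) := fun g h =>
    h.trans (isConj_iff.2 ⟨g, rfl⟩)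
  let act : MulAction ↥K W :=
    { smul := fun g w => ⟨((g : G) * w.1.1 * (g : G)⁻¹, (g : G) * w.1.2 * (g : G)⁻¹),
        hcj _ w.2.1, hcj _ w.2.2.1, by
          show (g : G) * w.1.1 * (g : G)⁻¹ * ((g : G) * w.1.2 * (g : G)⁻¹) = c
          rw [show (g : G) * w.1.1 * (g : G)⁻¹ * ((g : G) * w.1.2 * (g : G)⁻¹) =
            (g : G) * (w.1.1 * w.1.2) * (g : G)⁻¹ by group, w.2.2.2,
            Subgroup.mem_centralizer_singleton_iff.1 g.2, mul_inv_cancel_right]⟩
      one_smul := fun w => Subtype.ext (by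
        show (((1 : ↥K) : G) * w.1.1 * ((1 : ↥K) : G)⁻¹, ((1 : ↥K) : G) * w.1.2 * ((1 : ↥K) : G)⁻¹) = w.1
        simp)
      mul_smul := fun g h w => Subtype.ext (by
        show (((g * h : ↥K) : G) * w.1.1 * ((g * h : ↥K) : G)⁻¹, ((g * h : ↥K) : G) * w.1.2 * ((g * h : ↥K) : G)⁻¹) =
          ((g : G) * ((h : G) * w.1.1 * (h : G)⁻¹) * (g : G)⁻¹, (g : G) * ((h : G) * w.1.2 * (h : G)⁻¹) * (g : G)⁻¹)
        simp only [Subgroup.coe_mul, mul_inv_rev]
        exact Prod.ext (by group) (by group)) }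
  letI := act
  have hstab : ∀ w : W, MulAction.stabilizer ↥K w = ⊥ := fun w => by
    rw [Subgroup.eq_bot_iff_forall]
    intro g hg
    have h1 := congrArg (fun v : W => v.1.1) (MulAction.mem_stabilizer_iff.1 hg)
    change (g : G) * w.1.1 * (g : G)⁻¹ = w.1.1 at h1
    exact Subtype.ext (hfree g (Subgroup.mem_centralizer_singleton_iff.1 g.2) w.1.1 w.2.1
      (mul_inv_eq_iff_eq_mul.1 h1))
  rw [Nat.card_congr (MulAction.selfEquivSigmaOrbitsQuotientStabilizer ↥K W), Nat.card_sigma]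
  exact Finset.dvd_sum fun ω _ => by
    rw [hstab, Nat.card_congr QuotientGroup.quotientBot.toEquiv]

variable [IsSimpleGroup G] [Fact (Nat.Prime 11)]

namespace Blk

variable (B : Blk G)

/-- the values of a family of regular elements -/
structure Vals (S : Finset G) (r : Fin 4 → ℤ) : Prop where
  regular : ∀ h ∈ S, ¬ 11 ∣ orderOf h
  eq : ∀ i, ∑ h ∈ S, (B.c i : G → ℂ) h = (r i : ℂ)

variable {B}

theorem not_isConj_x {h : G} (hh : ¬ 11 ∣ orderOf h) : ¬ IsConj h B.x := fun hc => hh (by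
  obtain ⟨c, hc⟩ := isConj_iff.1 hc
  rw [show orderOf h = orderOf B.x from (by
    rw [← hc]; exact (MulEquiv.orderOf_eq (MulAut.conj c) h).symm), x, B.C.order])

/-- Orthogonality with the singular column. -/
theorem orth_x {h : G} (hh : ¬ 11 ∣ orderOf h) :
    1 + ∑ i, (B.c i : G → ℂ) h * (sgn (B.z i) : ℂ) - (B.δ : ℂ) * (B.ν 1 : G → ℂ) h = 0 := by
  have h1 := second_orthogonality h B.x
  rw [if_neg (not_isConj_x hh), B.sum_split,
    Finset.sum_congr rfl (g := fun η : IrrCharacter G => (B.ν 1 : G → ℂ) h * conj ((η : G → ℂ) B.x))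
      (fun η hη => by rw [B.apply_exc hη hh]),
    Finset.sum_eq_zero (s := B.rest) (fun η hη => by rw [B.rest_apply_x hη, map_zero, mul_zero]),
    ← Finset.mul_sum, ← map_sum, B.sum_exc_x, oneG_apply, oneG_apply,
    Finset.sum_congr rfl (g := fun i : Fin 4 => (B.c i : G → ℂ) h * (sgn (B.z i) : ℂ))
      (fun i _ => by rw [B.apply_x, map_intCast])] at h1
  simp only [map_neg, map_intCast, map_one, mul_one, add_zero] at h1
  linear_combination h1

/-- The exceptional values are determined by the others. -/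
theorem Vals.exc {S : Finset G} {r : Fin 4 → ℤ} (V : B.Vals S r) :
    ∑ h ∈ S, (B.ν 1 : G → ℂ) h = (lin (v4 B.z) S.card (v4 r) : ℂ) := by
  have hsum : ∑ h ∈ S, (1 + ∑ i, (B.c i : G → ℂ) h * (sgn (B.z i) : ℂ) - (B.δ : ℂ) * (B.ν 1 : G → ℂ) h) = 0 :=
    Finset.sum_eq_zero fun h hh => orth_x (V.regular h hh)
  rw [Finset.sum_sub_distrib, Finset.sum_add_distrib, Finset.sum_comm, ← Finset.mul_sum,
    Finset.sum_congr rfl (g := fun i : Fin 4 => (r i : ℂ) * (sgn (B.z i) : ℂ))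
      (fun i _ => by rw [← Finset.sum_mul, V.eq i]), Finset.sum_const, nsmul_eq_mul, mul_one] at hsum
  have hd : (B.δ : ℂ) * (B.δ : ℂ) = 1 := by rcases B.data.sign with e | e <;> simp [e]
  have he := B.exc_sign.1
  simp only [lin, v4, Fin.sum_univ_four] at hsum ⊢
  rw [show sgn (aOf (B.z 0, B.z 1, B.z 2, B.z 3)) = B.δ from he.symm]
  push_cast
  linear_combination -(B.δ : ℂ) * hsum - (∑ h ∈ S, (B.ν 1 : G → ℂ) h) * hd

theorem den_ne : den (v4 B.z) ≠ 0 := by
  have hd := deg_irr_pos (B.ν 1)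
  simp only [den, v4]
  have := B.exc_sign.2
  simp only [v4] at this
  have := B.z_ne 0
  have := B.z_ne 1
  have := B.z_ne 2
  have := B.z_ne 3
  simp only [mul_ne_zero_iff, ne_eq, Nat.cast_eq_zero, Int.natAbs_eq_zero]
  omega

theorem den_div {n : ℕ} (hn : n ≠ 0) (hd : (n : ℤ) ∣ den (v4 B.z)) :
    ((den (v4 B.z) / (n : ℤ) : ℤ) : ℂ) = (den (v4 B.z) : ℂ) / (n : ℂ) := by
  rw [Int.cast_div hd (by exact_mod_cast hn)]
  simp

theorem den_div_z (i : Fin 4) : ((den (v4 B.z) / ((B.z i).natAbs : ℤ) : ℤ) : ℂ) =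
    (den (v4 B.z) : ℂ) / (deg (B.c i : G → ℂ) : ℂ) := by
  rw [← (B.sign_eq i).2]
  refine den_div (Int.natAbs_ne_zero.2 (B.z_ne i)) ?_
  simp only [den, v4]
  fin_cases i <;> simp only [Fin.zero_eta, Fin.mk_one, Fin.reduceFinMk]
  · exact dvd_mul_of_dvd_right (dvd_mul_right _ _) _
  · exact dvd_mul_of_dvd_right (dvd_mul_of_dvd_right (dvd_mul_right _ _) _) _
  · exact dvd_mul_of_dvd_right (dvd_mul_of_dvd_right (dvd_mul_of_dvd_right (dvd_mul_right _ _) _) _) _
  · exact dvd_mul_of_dvd_right (dvd_mul_of_dvd_right (dvd_mul_of_dvd_right (dvd_mul_left _ _) _) _) _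

theorem den_div_a : ((den (v4 B.z) / ((aOf (v4 B.z)).natAbs : ℤ) : ℤ) : ℂ) =
    (den (v4 B.z) : ℂ) / (deg (B.ν 1 : G → ℂ) : ℂ) := by
  rw [← B.exc_sign.2]
  refine den_div ?_ (dvd_mul_right _ _)
  rw [B.exc_sign.2]
  exact (deg_irr_pos _).ne'

theorem base_eq (k : ℤ) (r : Fin 4 → ℤ) : (base (v4 B.z) k (v4 r) : ℂ) =
    (den (v4 B.z) : ℂ) * ((k : ℂ) + ∑ i, (r i : ℂ) / (deg (B.c i : G → ℂ) : ℂ)) := by
  have h0 := den_div_z (B := B) 0
  have h1 := den_div_z (B := B) 1
  have h2 := den_div_z (B := B) 2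
  have h3 := den_div_z (B := B) 3
  simp only [v4] at h0 h1 h2 h3 ⊢
  simp only [base, Fin.sum_univ_four]
  push_cast at h0 h1 h2 h3 ⊢
  rw [h0, h1, h2, h3]
  ring

theorem orderOf_conj_x {a : G} (h : IsConj B.x a) : orderOf a = 11 := by
  obtain ⟨c, rfl⟩ := isConj_iff.1 h
  rw [show c * B.x * c⁻¹ = MulAut.conj c B.x from rfl, MulEquiv.orderOf_eq, x, B.C.order]

theorem centralizer_inv (h : G) :
    Subgroup.centralizer ({h⁻¹} : Set G) = Subgroup.centralizer ({h} : Set G) := by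
  ext g
  simp only [Subgroup.mem_centralizer_singleton_iff]
  exact ⟨fun e => by simpa using (Commute.inv_right (show Commute g h⁻¹ from e)).eq,
    fun e => (Commute.inv_right (show Commute g h from e)).eq⟩

theorem free_x {h : G} (hh : ¬ 11 ∣ orderOf h) (hne : h ≠ 1) {g : G} (hg : g * h = h * g) {a : G}
    (ha : IsConj B.x a) (hga : g * a = a * g) : g = 1 := by
  have h1 : orderOf g ∣ 11 := by
    rw [← cent_eleven B.card (orderOf_conj_x ha)]
    exact Subgroup.orderOf_dvd_natCard _ (Subgroup.mem_centralizer_singleton_iff.2 hga)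
  have h2 : orderOf g ∣ 8640 :=
    (Subgroup.orderOf_dvd_natCard _ (Subgroup.mem_centralizer_singleton_iff.2 hg)).trans
      (centralizer_dvd B.card hne hh)
  exact orderOf_eq_one_iff.1 (Nat.eq_one_of_dvd_coprimes (by norm_num : Nat.Coprime 11 8640) h1 h2)

/-- Products of elements of the classes of the element of order eleven and of its inverse. -/
theorem count_pm {h : G} (hh : ¬ 11 ∣ orderOf h) :
    (Nat.card {w : G × G // IsConj B.x w.1 ∧ IsConj B.x⁻¹ w.2 ∧ w.1 * w.2 = h⁻¹} : ℂ) =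
      (8640 : ℂ) / 11 * (1 + ∑ i, (B.c i : G → ℂ) h / (deg (B.c i : G → ℂ) : ℂ) +
        6 * ((B.ν 1 : G → ℂ) h / (deg (B.ν 1 : G → ℂ) : ℂ))) := by
  have hK : Nat.card {a : G // IsConj B.x⁻¹ a} = 8640 := by
    refine Eq.trans (Nat.card_congr ((Equiv.inv G).subtypeEquiv fun a => ?_)) B.card_class_x
    simp only [Equiv.inv_apply]
    constructor <;> intro e <;> obtain ⟨c, hc⟩ := isConj_iff.1 e <;> refine isConj_iff.2 ⟨c, ?_⟩
    · rw [← hc]; group
    · rw [← inv_inj, ← hc]; group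
  have hcv : ∀ (η : IrrCharacter G), conj ((η : G → ℂ) h⁻¹) = (η : G → ℂ) h := fun η => by
    rw [IsCharacter.conj_inv (isCharacter_of_irr η.2), Complex.conj_conj]
  have hxv : ∀ (η : IrrCharacter G), (η : G → ℂ) B.x⁻¹ = conj ((η : G → ℂ) B.x) := fun η =>
    IsCharacter.conj_inv (isCharacter_of_irr η.2) _
  rw [class_mult_formula B.x B.x⁻¹ h⁻¹, B.card_class_x, hK, B.card,
    Finset.sum_congr rfl fun η _ => by rw [hcv η, hxv η], B.sum_split,
    Finset.sum_congr rfl (g := fun i : Fin 4 => (B.c i : G → ℂ) h / (deg (B.c i : G → ℂ) : ℂ))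
      (fun i _ => by
        rw [irr_apply_one_eq_deg, B.apply_x, map_intCast]
        linear_combination ((B.c i : G → ℂ) h / (deg (B.c i : G → ℂ) : ℂ)) * sgn_sq (B.z i)),
    Finset.sum_congr rfl (g := fun η : IrrCharacter G =>
      ((η : G → ℂ) B.x * conj ((η : G → ℂ) B.x)) * ((B.ν 1 : G → ℂ) h / (deg (B.ν 1 : G → ℂ) : ℂ)))
      (fun η hη => by rw [B.apply_exc hη hh, irr_apply_one_eq_deg, B.deg_exc_eq hη]; ring),
    Finset.sum_eq_zero (s := B.rest) (fun η hη => by rw [B.rest_apply_x hη, zero_mul, zero_mul, zero_div]),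
    ← Finset.sum_mul, B.sum_exc_norm, oneG_apply, oneG_apply, oneG_apply]
  push_cast
  simp only [map_one]
  ring

/-- Products of two elements of the class of the element of order eleven. -/
theorem count_pp {h : G} (hh : ¬ 11 ∣ orderOf h) :
    (Nat.card {w : G × G // IsConj B.x w.1 ∧ IsConj B.x w.2 ∧ w.1 * w.2 = h⁻¹} : ℂ) =
      (8640 : ℂ) / 11 * (1 + ∑ i, (B.c i : G → ℂ) h / (deg (B.c i : G → ℂ) : ℂ) -
        5 * ((B.ν 1 : G → ℂ) h / (deg (B.ν 1 : G → ℂ) : ℂ))) := by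
  have hcv : ∀ (η : IrrCharacter G), conj ((η : G → ℂ) h⁻¹) = (η : G → ℂ) h := fun η => by
    rw [IsCharacter.conj_inv (isCharacter_of_irr η.2), Complex.conj_conj]
  rw [class_mult_formula B.x B.x h⁻¹, B.card_class_x, B.card,
    Finset.sum_congr rfl fun η _ => by rw [hcv η], B.sum_split,
    Finset.sum_congr rfl (g := fun i : Fin 4 => (B.c i : G → ℂ) h / (deg (B.c i : G → ℂ) : ℂ))
      (fun i _ => by
        rw [irr_apply_one_eq_deg, B.apply_x]
        linear_combination ((B.c i : G → ℂ) h / (deg (B.c i : G → ℂ) : ℂ)) * sgn_sq (B.z i)),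
    Finset.sum_congr rfl (g := fun η : IrrCharacter G =>
      ((η : G → ℂ) B.x * (η : G → ℂ) B.x) * ((B.ν 1 : G → ℂ) h / (deg (B.ν 1 : G → ℂ) : ℂ)))
      (fun η hη => by rw [B.apply_exc hη hh, irr_apply_one_eq_deg, B.deg_exc_eq hη]; ring),
    Finset.sum_eq_zero (s := B.rest) (fun η hη => by rw [B.rest_apply_x hη, zero_mul, zero_mul, zero_div]),
    ← Finset.sum_mul, B.sum_exc_sq, oneG_apply, oneG_apply, oneG_apply]
  push_cast
  ring

/-- The integrality test holds. -/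
theorem Vals.multOK {S : Finset G} {r : Fin 4 → ℤ} (V : B.Vals S r) (hne : ∀ h ∈ S, h ≠ 1) {d : ℕ}
    (hd : ∀ h ∈ S, d ∣ Nat.card ↥(Subgroup.centralizer ({h} : Set G))) :
    M12Order.multOK (v4 B.z) S.card d (v4 r) = true := by
  have key : ∀ (m : ℤ) (N : G → ℕ),
      (∀ h ∈ S, (N h : ℂ) = (8640 : ℂ) / 11 * (1 + ∑ i, (B.c i : G → ℂ) h / (deg (B.c i : G → ℂ) : ℂ) +
        (m : ℂ) * ((B.ν 1 : G → ℂ) h / (deg (B.ν 1 : G → ℂ) : ℂ)))) →
      (∀ h ∈ S, d ∣ N h) →
      0 ≤ base (v4 B.z) S.card (v4 r) +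
          m * lin (v4 B.z) S.card (v4 r) * (den (v4 B.z) / ((aOf (v4 B.z)).natAbs : ℤ)) ∧
        (8640 * (base (v4 B.z) S.card (v4 r) +
          m * lin (v4 B.z) S.card (v4 r) * (den (v4 B.z) / ((aOf (v4 B.z)).natAbs : ℤ)))) %
            (11 * (d : ℤ) * den (v4 B.z)) = 0 := by
    intro m N hN hdN
    obtain ⟨q, hq⟩ := Finset.dvd_sum hdN
    have e : ∑ h ∈ S, (N h : ℂ) = ((d * q : ℕ) : ℂ) := by rw [← hq]; push_cast; rfl
    rw [Finset.sum_congr rfl hN, ← Finset.mul_sum, Finset.sum_add_distrib, Finset.sum_add_distrib,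
      Finset.sum_const, nsmul_eq_mul, mul_one, Finset.sum_comm, ← Finset.mul_sum, ← Finset.sum_div, V.exc,
      Finset.sum_congr rfl (g := fun i : Fin 4 => (r i : ℂ) / (deg (B.c i : G → ℂ) : ℂ))
        (fun i _ => by rw [← Finset.sum_div, V.eq i])] at e
    set n := base (v4 B.z) S.card (v4 r) +
      m * lin (v4 B.z) S.card (v4 r) * (den (v4 B.z) / ((aOf (v4 B.z)).natAbs : ℤ)) with hn
    have hn' : (n : ℂ) = (den (v4 B.z) : ℂ) * ((S.card : ℂ) + ∑ i, (r i : ℂ) / (deg (B.c i : G → ℂ) : ℂ) +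
        (m : ℂ) * ((lin (v4 B.z) S.card (v4 r) : ℂ) / (deg (B.ν 1 : G → ℂ) : ℂ))) := by
      rw [hn, Int.cast_add, base_eq, Int.cast_mul, Int.cast_mul, den_div_a]
      push_cast
      ring
    have heq : 8640 * n = 11 * (d : ℤ) * den (v4 B.z) * q := by
      apply Int.cast_injective (α := ℂ)
      push_cast at e ⊢
      rw [hn']
      linear_combination 11 * (den (v4 B.z) : ℂ) * e
    refine ⟨?_, by rw [heq]; exact Int.mul_emod_right _ _⟩
    have hpos : 0 < den (v4 B.z) := lt_of_le_of_ne (by simp only [den]; positivity) den_ne.symm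
    have : 0 ≤ 11 * (d : ℤ) * den (v4 B.z) * q := by positivity
    linarith
  have h1 := key 6 _ (fun h hh => by exact_mod_cast count_pm (B := B) (V.regular h hh))
    fun h hh => ((hd h hh).trans (by rw [centralizer_inv])).trans (dvd_card_pairs fun g hg a ha hga =>
      free_x (h := h⁻¹) (by rw [orderOf_inv]; exact V.regular h hh) (inv_ne_one.2 (hne h hh)) hg ha hga)
  have h2 := key (-5) _ (fun h hh => by
      have := count_pp (B := B) (V.regular h hh)
      push_cast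
      linear_combination this)
    fun h hh => ((hd h hh).trans (by rw [centralizer_inv])).trans (dvd_card_pairs fun g hg a ha hga =>
      free_x (h := h⁻¹) (by rw [orderOf_inv]; exact V.regular h hh) (inv_ne_one.2 (hne h hh)) hg ha hga)
  simp only [M12Order.multOK, List.all_cons, List.all_nil, Bool.and_true, Bool.and_eq_true, decide_eq_true_eq,
    beq_iff_eq]
  exact ⟨h1, h2⟩

/-- The sum of the squares. -/
theorem Vals.sum_sq {S : Finset G} (hS : ∀ h ∈ S, ∀ h' ∈ S, IsConj h h' → h = h') {C : ℕ}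
    (hC : ∀ h ∈ S, Nat.card ↥(Subgroup.centralizer ({h} : Set G)) = C) :
    ∑ η : IrrCharacter G, (∑ h ∈ S, (η : G → ℂ) h) * conj (∑ h ∈ S, (η : G → ℂ) h) = (S.card * C : ℕ) := by
  simp only [map_sum, Finset.sum_mul, Finset.mul_sum]
  rw [Finset.sum_comm]
  rw [Finset.sum_congr rfl (g := fun _ : G => (C : ℂ)) fun h hh => ?_, Finset.sum_const, nsmul_eq_mul, Nat.cast_mul]
  rw [Finset.sum_comm, Finset.sum_eq_single h]
  · rw [second_orthogonality, if_pos (IsConj.refl _), hC h hh]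
  · intro h' hh' hne
    rw [second_orthogonality, if_neg fun e => hne (hS h' hh' h hh e)]
  · exact fun h' => absurd hh h'

/-- The block part of the sum of the squares. -/
theorem Vals.blockSq_le {S : Finset G} {r : Fin 4 → ℤ} (V : B.Vals S r)
    (hS : ∀ h ∈ S, ∀ h' ∈ S, IsConj h h' → h = h') {C : ℕ}
    (hC : ∀ h ∈ S, Nat.card ↥(Subgroup.centralizer ({h} : Set G)) = C) :
    blockSq (v4 B.z) S.card (v4 r) ≤ (S.card * C : ℕ) := by
  have h := Vals.sum_sq hS hC
  rw [B.sum_split,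
    Finset.sum_congr rfl (g := fun i : Fin 4 => ((r i * r i : ℤ) : ℂ))
      (fun i _ => by rw [V.eq i, map_intCast]; push_cast; ring),
    Finset.sum_congr rfl (g := fun _ : IrrCharacter G => ((lin (v4 B.z) S.card (v4 r) * lin (v4 B.z) S.card (v4 r) : ℤ) : ℂ))
      (fun η hη => by
        rw [Finset.sum_congr rfl fun h hh => B.apply_exc hη (V.regular h hh), V.exc, map_intCast]
        push_cast; ring),
    Finset.sum_const, B.card_exc, Finset.sum_congr rfl (g := fun _ : G => (1 : ℂ)) (fun h _ => oneG_apply h),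
    Finset.sum_const, nsmul_eq_mul, mul_one, map_natCast, nsmul_eq_mul,
    Finset.sum_congr rfl (g := fun η : IrrCharacter G => ((Complex.normSq (∑ h ∈ S, (η : G → ℂ) h) : ℝ) : ℂ))
      (fun η _ => Complex.mul_conj _), ← Complex.ofReal_sum] at h
  have hre := congrArg Complex.re h
  simp only [Complex.add_re, Complex.ofReal_re, Complex.natCast_re, Complex.mul_re, Complex.intCast_re,
    Complex.natCast_im, Complex.intCast_im, Complex.re_sum, mul_zero, sub_zero, zero_mul] at hre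
  have hnn : 0 ≤ ∑ η ∈ B.rest, Complex.normSq (∑ h ∈ S, (η : G → ℂ) h) :=
    Finset.sum_nonneg fun η _ => Complex.normSq_nonneg _
  have hb : ((blockSq (v4 B.z) S.card (v4 r) : ℤ) : ℝ) ≤ ((S.card * C : ℕ) : ℝ) := by
    simp only [blockSq, v4, Fin.sum_univ_four] at hre ⊢
    push_cast at hre ⊢
    linarith
  exact_mod_cast hb

end Blk

end Cfsg.Lib.M12Order
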