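import Cfsg.Agent.M12Order.Eleven

/-!
The normaliser of a subgroup of order five in a simple group of order 95040.
-/

set_option autoImplicit false
set_option linter.unusedSectionVars false
set_option linter.style.haveILetI false

namespace Cfsg.Lib.M12Order

open Subgroup Cfsg.Lib.Blocks.DegreeEquation

universe u

theorem sylow_five_num : ∀ n ∈ Nat.divisors 19008, n % 5 = 1 → 11 ∣ n → checkN 5 19008 309 n = false →
    n = 66 ∨ n = 176 ∨ n = 396 ∨ n = 1056 ∨ n = 2376 := by decide +kernel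

theorem j540_num : ∀ j ∈ Nat.divisors 176, j % 5 = 1 → 176 / j % 3 = 1 → ¬ 11 ∣ j → False := by decide +kernel

theorem j90_num : ∀ j ∈ Nat.divisors 1056, j % 5 = 1 → 3 ∣ j → ¬ 11 ∣ j → 2 ∣ j := by decide +kernel

variable {G : Type u} [Group G] [Finite G]

theorem centralizer_zpowers (y : G) :
    centralizer (zpowers y : Set G) = centralizer ({y} : Set G) := by
  rw [Subgroup.zpowers_eq_closure, Subgroup.centralizer_closure]

theorem zpowers_eq_of_pow {y b : G} (hy : orderOf y = 5) (hb : orderOf b = 5) (h : b ∈ zpowers y) :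
    zpowers b = zpowers y :=
  Subgroup.eq_of_le_of_card_ge (zpowers_le.2 h) (by rw [Nat.card_zpowers, Nat.card_zpowers, hy, hb])

theorem centralizer_le_norm (y : G) : centralizer ({y} : Set G) ≤ normalizer (zpowers y : Set G) := by
  rw [← centralizer_zpowers]; exact centralizer_le_normalizer _

/-- The centraliser is normalised. -/
theorem conj_mem_cent {y g c : G} (hg : g ∈ normalizer (zpowers y : Set G))
    (hc : c ∈ centralizer ({y} : Set G)) : g * c * g⁻¹ ∈ centralizer ({y} : Set G) := by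
  rw [← centralizer_zpowers] at hc ⊢
  refine mem_centralizer_iff.2 fun b hb => ?_
  have hb' : g⁻¹ * b * g ∈ zpowers y := (Subgroup.mem_normalizer_iff''.1 hg b).1 hb
  have h := mem_centralizer_iff.1 hc _ hb'
  calc b * (g * c * g⁻¹) = g * ((g⁻¹ * b * g) * c) * g⁻¹ := by group
    _ = g * (c * (g⁻¹ * b * g)) * g⁻¹ := by rw [h]
    _ = g * c * g⁻¹ * b := by group

variable [IsSimpleGroup G] (hG : Nat.card G = 95040)

local instance fact_five_local : Fact (Nat.Prime 5) := ⟨by norm_num⟩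
local instance fact_three_local : Fact (Nat.Prime 3) := ⟨Nat.prime_three⟩
local instance fact_two_local : Fact (Nat.Prime 2) := ⟨Nat.prime_two⟩
local instance fact_eleven_local : Fact (Nat.Prime 11) := ⟨by norm_num⟩

include hG

theorem card_sylow_five_eq (P : Sylow 5 G) : Nat.card ↥(P : Subgroup G) = 5 := by
  simpa using Cfsg.Lib.Small.card_sylow_of_factor P (a := 1) (m := 19008) (by rw [hG]; norm_num) (by norm_num)

/-- An element of order eleven normalises no 3-subgroup of order 9 or 27. -/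
theorem no_eleven_norm {Q : Subgroup G} (hQ : Nat.card ↥Q = 9 ∨ Nat.card ↥Q = 27) :
    ¬ 11 ∣ Nat.card ↥(normalizer (Q : Set G)) := fun hd => by
  obtain ⟨⟨x, hxN⟩, hxo⟩ := exists_prime_orderOf_dvd_card' (G := ↥(normalizer (Q : Set G))) 11 hd
  rw [← Subgroup.orderOf_coe] at hxo
  have h1 := Cfsg.Lib.MathieuEleven.ncard_conj_mod (p := 11) (x := x) (k := 1) (s := (Q : Set G))
    (by rw [pow_one, ← hxo, pow_orderOf_eq_one]) fun a ha => (Subgroup.mem_normalizer_iff.1 hxN a).1 ha
  have h2 : {a ∈ (Q : Set G) | x * a = a * x} = {1} := by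
    ext a
    simp only [SetLike.mem_coe, Set.mem_singleton_iff]
    refine ⟨fun ha => ?_, fun e => ⟨e ▸ Q.one_mem, by rw [e, mul_one, one_mul]⟩⟩
    obtain ⟨ha, hc⟩ := ha
    have d1 : orderOf a ∣ 11 := cent_eleven hG hxo ▸ Cfsg.Lib.M12Nse.dvd_centralizer_orderOf hc.symm
    have d2 : orderOf a ∣ 27 := (Subgroup.orderOf_dvd_natCard _ ha).trans (by rcases hQ with e | e <;> rw [e] <;> norm_num)
    exact orderOf_eq_one_iff.1 (Nat.eq_one_of_dvd_coprimes (by norm_num : Nat.Coprime 11 27) d1 d2)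
  rw [h2, ← Nat.card_coe_set_eq, Set.ncard_singleton, SetLike.coe_sort_coe] at h1
  rcases hQ with e | e <;> rw [e] at h1 <;> norm_num at h1

section Y

variable {y : G} (hy : orderOf y = 5)

include hy

theorem norm_mul : Nat.card ↥(normalizer (zpowers y : Set G)) * Nat.card (Sylow 5 G) = 95040 := by
  obtain ⟨P, hP⟩ := Cfsg.Lib.M12Nse.exists_sylow_zpowers (card_sylow_five_eq hG) hy
  rw [← hP, Cfsg.Lib.Small.card_normalizer_mul, hG]

theorem sylow_five_cases : Nat.card (Sylow 5 G) = 66 ∨ Nat.card (Sylow 5 G) = 176 ∨ Nat.card (Sylow 5 G) = 396 ∨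
    Nat.card (Sylow 5 G) = 1056 ∨ Nat.card (Sylow 5 G) = 2376 := by
  have := Fintype.ofFinite G
  obtain ⟨P⟩ : Nonempty (Sylow 5 G) := inferInstance
  obtain ⟨h1, h2⟩ := Cfsg.Lib.Small.sylow_facts P (a := 1) (m := 19008) (by rw [hG]; norm_num) (by norm_num)
  refine sylow_five_num _ (Nat.mem_divisors.2 ⟨h1, by norm_num⟩) h2 ?_
    (checkN_card_sylow (Cfsg.Lib.Small.DegreeGraph.not_isCyclic_of_not_comm (not_comm hG)) 5 19008 309
      (by rw [hG]) (by norm_num) (by norm_num))
  by_contra h11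
  have hmul := norm_mul hG hy
  have hd : 11 ∣ Nat.card ↥(normalizer (zpowers y : Set G)) := by
    have : 11 ∣ Nat.card ↥(normalizer (zpowers y : Set G)) * Nat.card (Sylow 5 G) := by rw [hmul]; norm_num
    exact ((Nat.Prime.dvd_mul (by norm_num : Nat.Prime 11)).1 this).resolve_right h11
  obtain ⟨⟨x, hxN⟩, hxo⟩ := exists_prime_orderOf_dvd_card' (G := ↥(normalizer (zpowers y : Set G))) 11 hd
  rw [← Subgroup.orderOf_coe] at hxo
  have hx := Cfsg.Lib.Small.mem_centralizer_of_coprime (p := 5) (by rw [Nat.card_zpowers, hy]) hxN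
    (by rw [hxo]; norm_num)
  have := Cfsg.Lib.M12Nse.dvd_centralizer_orderOf (v := x) (a := y)
    (mem_centralizer_iff.1 hx y (mem_zpowers y))
  rw [cent_eleven hG hxo, hy] at this
  norm_num at this

/-- The index of the centraliser in the normaliser. -/
theorem norm_index : Nat.card ↥(normalizer (zpowers y : Set G)) = 2 * Nat.card ↥(centralizer ({y} : Set G)) ∨
    Nat.card ↥(normalizer (zpowers y : Set G)) = 4 * Nat.card ↥(centralizer ({y} : Set G)) := by
  set N := normalizer (zpowers y : Set G)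
  set C := centralizer ({y} : Set G)
  have hd := Cfsg.Lib.Small.relIndex_centralizer_dvd (p := 5) (P := zpowers y) (T := N)
    (by rw [Nat.card_zpowers, hy]) le_rfl
  rw [centralizer_zpowers] at hd
  have hmul : Nat.card ↥C * C.relIndex N = Nat.card ↥N := by
    rw [Subgroup.relIndex, ← Nat.card_congr (Subgroup.subgroupOfEquivOfLe (centralizer_le_norm y)).toEquiv]
    exact Subgroup.card_mul_index _
  have hmem : C.relIndex N ∈ Nat.divisors 4 := Nat.mem_divisors.2 ⟨hd, by norm_num⟩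
  rw [show Nat.divisors 4 = {1, 2, 4} by decide +kernel] at hmem
  simp only [Finset.mem_insert, Finset.mem_singleton] at hmem
  rcases hmem with e | e | e <;> rw [e] at hmul
  · exfalso
    obtain ⟨P, hP⟩ := Cfsg.Lib.M12Nse.exists_sylow_zpowers (card_sylow_five_eq hG) hy
    refine Cfsg.Lib.Small.not_normalizer_le_centralizer (not_comm hG) (by rw [hG]; norm_num) P ?_
    rw [hP, centralizer_zpowers]
    exact Subgroup.relIndex_eq_one.1 e
  · left; rw [← hmul, mul_comm]
  · right; rw [← hmul, mul_comm]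

/-- An involution commuting with the element and central in a 2-subgroup of the normaliser. -/
theorem exists_central_invol {a : ℕ} (ha : 3 ≤ a) (hd : 2 ^ a ∣ Nat.card ↥(normalizer (zpowers y : Set G))) :
    ∃ (u : G) (R : Subgroup G), u * u = 1 ∧ u ≠ 1 ∧ u * y = y * u ∧ Nat.card ↥R = 2 ^ a ∧
      R ≤ normalizer (zpowers y : Set G) ∧ R ≤ centralizer ({u} : Set G) := by
  set N := normalizer (zpowers y : Set G)
  set C := centralizer ({y} : Set G)
  obtain ⟨K, hK⟩ := Sylow.exists_subgroup_card_pow_prime 2 hd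
  set R := K.map N.subtype
  have hR : Nat.card ↥R = 2 ^ a := by rw [Subgroup.card_map_of_injective N.subtype_injective, hK]
  have hRN : R ≤ N := Subgroup.map_subtype_le K
  have hRp : IsPGroup 2 ↥R := IsPGroup.of_card hR
  set X := C.subgroupOf R
  haveI : X.Normal := ⟨fun c hc g => conj_mem_cent (hRN g.2) hc⟩
  have hX : X ≠ ⊥ := fun e => by
    have h := Cfsg.Lib.Small.relIndex_centralizer_dvd (p := 5) (P := zpowers y) (T := R)
      (by rw [Nat.card_zpowers, hy]) hRN
    rw [centralizer_zpowers] at h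
    change X.index ∣ 5 - 1 at h
    rw [e, Subgroup.index_bot, hR] at h
    have := Nat.le_of_dvd (by norm_num) h
    have : 2 ^ 3 ≤ 2 ^ a := Nat.pow_le_pow_right (by norm_num) ha
    omega
  obtain ⟨x, hxX, hxc, hx1⟩ := Cfsg.Lib.Small.exists_central_of_normal hRp X hX
  obtain ⟨k, hk⟩ := IsPGroup.iff_orderOf.1 hRp x
  have h2 : 2 ∣ orderOf x := by
    rcases k with _ | k
    · exact absurd (orderOf_eq_one_iff.1 hk) hx1
    · rw [hk]; exact dvd_pow_self 2 k.succ_ne_zero
  set v := x ^ (orderOf x / 2)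
  have hv : orderOf (v : G) = 2 := by rw [Subgroup.orderOf_coe]; exact orderOf_pow_orderOf_div (orderOf_pos x).ne' h2
  refine ⟨v, R, ?_, ?_, ?_, hR, hRN, fun r hr => mem_centralizer_singleton_iff.2 ?_⟩
  · rw [← pow_two, ← hv, pow_orderOf_eq_one]
  · intro e; rw [e, orderOf_one] at hv; omega
  · exact mem_centralizer_singleton_iff.1 (X.pow_mem hxX _ : v ∈ X)
  · exact congrArg Subtype.val (mem_center_iff.1 ((center ↥R).pow_mem hxc _) ⟨r, hr⟩)

/-- A normal Sylow three-subgroup of the centraliser. -/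
theorem exists_three {a m : ℕ} (hC : Nat.card ↥(centralizer ({y} : Set G)) = 5 * (3 ^ a * m))
    (hm : m = 1 ∨ m = 2) :
    ∃ Q : Subgroup G, Nat.card ↥Q = 3 ^ a ∧ Q ≤ centralizer ({y} : Set G) ∧
      normalizer (zpowers y : Set G) ≤ normalizer (Q : Set G) := by
  classical
  set C := centralizer ({y} : Set G) with hCd
  have hm3 : ¬ 3 ∣ 5 * m := by rcases hm with rfl | rfl <;> norm_num
  have hC' : Nat.card ↥C = 3 ^ a * (5 * m) := by rw [hC]; ring
  obtain ⟨S⟩ : Nonempty (Sylow 3 ↥C) := inferInstance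
  have hS := Cfsg.Lib.Small.card_sylow_of_factor S (a := a) (m := 5 * m) hC' hm3
  obtain ⟨hdiv, hmod⟩ := Cfsg.Lib.Small.sylow_facts S (a := a) (m := 5 * m) hC' hm3
  have h1 : Nat.card (Sylow 3 ↥C) = 1 := by
    have hmul := Cfsg.Lib.Small.card_normalizer_mul S
    set NS := normalizer ((S : Subgroup ↥C) : Set ↥C)
    have hyC : y ∈ C := mem_centralizer_singleton_iff.2 rfl
    have hy5 : 5 ∣ Nat.card ↥NS := by
      have hmem : (⟨y, hyC⟩ : ↥C) ∈ NS := centralizer_le_normalizer _ (mem_centralizer_iff.2 fun b _ =>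
        Subtype.ext (mem_centralizer_singleton_iff.1 b.2))
      have := Subgroup.orderOf_dvd_natCard NS hmem
      rwa [← Subgroup.orderOf_coe, hy] at this
    have hS3 : 3 ^ a ∣ Nat.card ↥NS := hS ▸ Subgroup.card_dvd_of_le le_normalizer
    have h53 : 5 * 3 ^ a ∣ Nat.card ↥NS :=
      Nat.Coprime.mul_dvd_of_dvd_of_dvd (Nat.Coprime.pow_right a (by norm_num)) hy5 hS3
    obtain ⟨q, hq⟩ := h53
    rw [hq, hC'] at hmul
    have hq2 : Nat.card (Sylow 3 ↥C) ∣ m := ⟨q, by
      refine Nat.eq_of_mul_eq_mul_left (show 0 < 5 * 3 ^ a by positivity) ?_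
      linarith [hmul, mul_comm (Nat.card (Sylow 3 ↥C)) q]⟩
    rcases hm with rfl | rfl
    · exact Nat.dvd_one.1 hq2
    · rcases (Nat.dvd_prime Nat.prime_two).1 hq2 with e | e
      · exact e
      · omega
  haveI : Subsingleton (Sylow 3 ↥C) := (Nat.card_eq_one_iff_unique.1 h1).1
  refine ⟨(S : Subgroup ↥C).map C.subtype, by rw [Subgroup.card_map_of_injective C.subtype_injective, hS],
    Subgroup.map_subtype_le _, fun g hg => ?_⟩
  have key : ∀ g ∈ normalizer (zpowers y : Set G), ∀ q ∈ (S : Subgroup ↥C).map C.subtype,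
      g * q * g⁻¹ ∈ (S : Subgroup ↥C).map C.subtype := by
    rintro g hg _ ⟨q, hq, rfl⟩
    let φ : ↥(S : Subgroup ↥C) →* ↥C := MonoidHom.mk'
      (fun s => ⟨g * ((s : ↥C) : G) * g⁻¹, conj_mem_cent hg (s : ↥C).2⟩) fun s t => Subtype.ext (by
        show g * (((s * t : ↥(S : Subgroup ↥C)) : ↥C) : G) * g⁻¹ = g * ((s : ↥C) : G) * g⁻¹ * (g * ((t : ↥C) : G) * g⁻¹)
        simp only [Subgroup.coe_mul]; group)
    have hp : IsPGroup 3 ↥φ.range := S.2.of_surjective φ.rangeRestrict φ.rangeRestrict_surjective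
    obtain ⟨T, hT⟩ := hp.exists_le_sylow
    rw [Subsingleton.elim T S] at hT
    exact ⟨φ ⟨q, hq⟩, hT ⟨⟨q, hq⟩, rfl⟩, rfl⟩
  refine Subgroup.mem_normalizer_iff.2 fun q => ⟨key g hg q, fun h => ?_⟩
  have := key g⁻¹ (inv_mem hg) _ h
  rwa [show g⁻¹ * (g * q * g⁻¹) * g⁻¹⁻¹ = q by group] at this

/-- The count in the normaliser of a normal subgroup of the centraliser. -/
theorem norm_count {Q : Subgroup G} (hN : normalizer (zpowers y : Set G) ≤ normalizer (Q : Set G)) :
    Nat.card (Sylow 5 ↥(normalizer (Q : Set G))) * Nat.card ↥(normalizer (zpowers y : Set G)) =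
        Nat.card ↥(normalizer (Q : Set G)) ∧ Nat.card (Sylow 5 ↥(normalizer (Q : Set G))) % 5 = 1 := by
  have h := Cfsg.Lib.MathieuEleven.sylow_count (normalizer (Q : Set G))
    (A := zpowers y) ((zpowers_le.2 (centralizer_le_norm y (mem_centralizer_singleton_iff.2 rfl))).trans hN)
    (n := 1) (by rw [Nat.card_zpowers, hy, pow_one]) (fun hd => by
      have := hd.trans (card_subgroup_dvd_card _)
      rw [hG] at this
      norm_num at this)
  rwa [inf_eq_right.2 hN] at h

theorem no_540 (h : Nat.card (Sylow 5 G) = 176) : False := by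
  have hmul := norm_mul hG hy
  rw [h] at hmul
  obtain ⟨Q, hQ, hQC, hQN⟩ : ∃ Q : Subgroup G, Nat.card ↥Q = 27 ∧ Q ≤ centralizer ({y} : Set G) ∧
      normalizer (zpowers y : Set G) ≤ normalizer (Q : Set G) := by
    rcases norm_index hG hy with e | e <;> rw [e] at hmul
    · exact exists_three hG hy (a := 3) (m := 2) (by omega) (Or.inr rfl)
    · exact exists_three hG hy (a := 3) (m := 1) (by omega) (Or.inl rfl)
  obtain ⟨h1, h2⟩ := norm_count hG hy hQN
  set j := Nat.card (Sylow 5 ↥(normalizer (Q : Set G)))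
  have hN540 : Nat.card ↥(normalizer (zpowers y : Set G)) = 540 := by omega
  rw [hN540] at h1
  have hd := card_subgroup_dvd_card (normalizer (Q : Set G))
  rw [← h1, hG, show (95040 : ℕ) = 176 * 540 by norm_num] at hd
  have hj : j ∣ 176 := Nat.dvd_of_mul_dvd_mul_right (by norm_num) hd
  obtain ⟨P, hP⟩ := (IsPGroup.of_card (p := 3) (n := 3) (by rw [hQ]; norm_num) : IsPGroup 3 ↥Q).exists_le_sylow
  have hP' : Q = (P : Subgroup G) := Subgroup.eq_of_le_of_card_ge hP (by
    rw [hQ, Cfsg.Lib.Small.card_sylow_of_factor P (a := 3) (m := 3520) (by rw [hG]; norm_num) (by norm_num)]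
    norm_num)
  obtain ⟨-, h3⟩ := Cfsg.Lib.Small.sylow_facts P (a := 3) (m := 3520) (by rw [hG]; norm_num) (by norm_num)
  have hm3 := Cfsg.Lib.Small.card_normalizer_mul P
  rw [← hP', ← h1, hG] at hm3
  have hn : 176 / j = Nat.card (Sylow 3 G) := by
    refine Nat.div_eq_of_eq_mul_left ?_ ?_
    · rcases Nat.eq_zero_or_pos j with e | e
      · rw [e] at hm3; simp at hm3
      · exact e
    · nlinarith [hm3]
  refine j540_num j (Nat.mem_divisors.2 ⟨hj, by norm_num⟩) h2 (hn ▸ h3) fun h11 => ?_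
  exact no_eleven_norm hG (Or.inr hQ) (h1 ▸ h11.mul_right 540)

/-- The structure in the case of 1056 Sylow five-subgroups. -/
theorem case_90 (h : Nat.card (Sylow 5 G) = 1056) :
    Nat.card ↥(centralizer ({y} : Set G)) = 45 ∧
      (∀ g : G, g * y * g⁻¹ ≠ y ^ 2) ∧ (∃ g : G, g * y * g⁻¹ = y⁻¹) ∧
      ∃ i : G, i * i = 1 ∧ i ≠ 1 ∧ 9 ∣ Nat.card ↥(centralizer ({i} : Set G)) := by
  have hmul := norm_mul hG hy
  rw [h] at hmul
  have hN90 : Nat.card ↥(normalizer (zpowers y : Set G)) = 90 := by omega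
  have hC : Nat.card ↥(centralizer ({y} : Set G)) = 45 := by
    rcases norm_index hG hy with e | e <;> omega
  set N := normalizer (zpowers y : Set G) with hNd
  set C := centralizer ({y} : Set G) with hCd
  have hi : (C.subgroupOf N).index = 2 := by
    have h' := (C.subgroupOf N).card_mul_index
    rw [Nat.card_congr (Subgroup.subgroupOfEquivOfLe (centralizer_le_norm y)).toEquiv, ← hCd, hC, hN90] at h'
    omega
  haveI : (C.subgroupOf N).Normal := Subgroup.normal_of_index_eq_two hi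
  have hsq : ∀ g ∈ N, g * g * y = y * (g * g) := fun g hg =>
    mem_centralizer_singleton_iff.1 (Subgroup.mul_self_mem_of_index_two hi ⟨g, hg⟩)
  have hpow : ∀ (g : G) (i : ℕ), g * y * g⁻¹ = y ^ i → g * g * y * (g * g)⁻¹ = y ^ (i * i) := fun g i hi => by
    rw [show g * g * y * (g * g)⁻¹ = g * (g * y * g⁻¹) * g⁻¹ by group, hi, ← conj_pow, hi, ← pow_mul]
  refine ⟨hC, fun g hg => ?_, ?_, ?_⟩
  · have hgN : g ∈ N := Cfsg.Lib.MathieuEleven.mem_normalizer_zpowers (hg ▸ pow_mem (mem_zpowers y) 2)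
    have h4 := hpow g 2 hg
    rw [hsq g hgN, mul_inv_cancel_right] at h4
    have h3 : y ^ 3 = 1 := by
      rw [show (2 * 2 : ℕ) = 1 + 3 from rfl, pow_add, pow_one] at h4
      exact left_eq_mul.1 h4
    have := orderOf_dvd_of_pow_eq_one h3
    rw [hy] at this
    norm_num at this
  · obtain ⟨g, hgN, hgC⟩ := SetLike.exists_of_lt (lt_of_le_of_ne (centralizer_le_norm y) fun e => by
      rw [← hCd, ← hNd] at e
      rw [e] at hC
      omega)
    obtain ⟨i, hi'⟩ := (isOfFinOrder_of_finite y).mem_powers_iff_mem_zpowers.2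
      ((Subgroup.mem_normalizer_iff.1 hgN y).1 (mem_zpowers y))
    have hi5 : y ^ (i % 5) = g * y * g⁻¹ := by rw [← hy, pow_mod_orderOf]; exact hi'
    have h1 := hpow g (i % 5) hi5.symm
    rw [hsq g hgN, mul_inv_cancel_right] at h1
    have hmod : i % 5 * (i % 5) % 5 = 1 := by
      have := (pow_eq_pow_iff_modEq (x := y)).1 ((pow_one y).trans h1)
      rw [hy, Nat.ModEq] at this
      omega
    have hlt : i % 5 < 5 := Nat.mod_lt _ (by norm_num)
    refine ⟨g, ?_⟩
    rcases (show i % 5 = 1 ∨ i % 5 = 4 by interval_cases hh : i % 5 <;> omega) with e | e <;> rw [e] at hi5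
    · refine absurd (mem_centralizer_singleton_iff.2 (mul_inv_eq_iff_eq_mul.1 (hi5.symm.trans (pow_one y)))) hgC
    · rw [← hi5]
      refine eq_inv_of_mul_eq_one_left ?_
      rw [← pow_succ, show 4 + 1 = orderOf y by rw [hy], pow_orderOf_eq_one]
  · obtain ⟨Q, hQ, hQC, hQN⟩ := exists_three hG hy (a := 2) (m := 1) (by rw [hC]; norm_num) (Or.inl rfl)
    obtain ⟨h1, h2⟩ := norm_count hG hy hQN
    set X := normalizer (Q : Set G) with hX
    set j := Nat.card (Sylow 5 ↥X) with hj
    rw [← hNd, hN90] at h1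
    have hd := card_subgroup_dvd_card X
    rw [← h1, hG, show (95040 : ℕ) = 1056 * 90 by norm_num] at hd
    have hjd : j ∣ 1056 := Nat.dvd_of_mul_dvd_mul_right (by norm_num) hd
    have h27 : 3 ^ (2 + 1) ∣ Nat.card ↥X :=
      Sylow.prime_pow_dvd_card_normalizer (by rw [hG]; norm_num) hQ
    rw [← h1, show (3 : ℕ) ^ (2 + 1) = 3 * 9 by norm_num, show j * 90 = j * 10 * 9 by ring] at h27
    have h3j : 3 ∣ j :=
      (Nat.Coprime.dvd_of_dvd_mul_right (by norm_num) (Nat.dvd_of_mul_dvd_mul_right (by norm_num) h27))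
    have h2j : 2 ∣ j := j90_num j (Nat.mem_divisors.2 ⟨hjd, by norm_num⟩) h2 h3j
      fun h11 => no_eleven_norm hG (Or.inl hQ) (h1 ▸ h11.mul_right 90)
    -- the kernel of the action on the subgroup
    set K : Subgroup ↥X := (centralizer (Q : Set G)).subgroupOf X with hK
    haveI : K.Normal := by rw [hK, ← Subgroup.normalizerMonoidHom_ker]; infer_instance
    have hyX : y ∈ X := hQN (centralizer_le_norm y (mem_centralizer_singleton_iff.2 rfl))
    have hyK : (⟨y, hyX⟩ : ↥X) ∈ K := mem_centralizer_iff.2 fun b hb =>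
      mem_centralizer_singleton_iff.1 (hQC hb)
    have hK5 : 5 ∣ Nat.card ↥K := by
      have := Subgroup.orderOf_dvd_natCard K hyK
      rwa [← Subgroup.orderOf_coe, hy] at this
    have hX25 : ¬ 5 * 5 ∣ Nat.card ↥X := fun hh => by
      have := hh.trans (card_subgroup_dvd_card X)
      rw [hG] at this
      norm_num at this
    have hin : ∀ g : ↥X, orderOf g = 5 → g ∈ K := fun g hg => by
      rw [← QuotientGroup.eq_one_iff, ← orderOf_eq_one_iff]
      have hd1 : orderOf (g : ↥X ⧸ K) ∣ 5 := hg ▸ orderOf_map_dvd (QuotientGroup.mk' K) g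
      rcases (Nat.dvd_prime (by norm_num : Nat.Prime 5)).1 hd1 with e | e
      · exact e
      · exfalso
        have h5i : 5 ∣ K.index := by rw [Subgroup.index_eq_card, ← e]; exact orderOf_dvd_natCard _
        exact hX25 ((Nat.mul_dvd_mul hK5 h5i).trans (dvd_of_eq K.card_mul_index))
    have hKS : ∀ S : Sylow 5 ↥K, Nat.card ↥(S : Subgroup ↥K) = 5 := fun S => by
      obtain ⟨q, hq⟩ := hK5
      simpa using Cfsg.Lib.Small.card_sylow_of_factor S (a := 1) (m := q) (by rw [hq, pow_one])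
        (fun hh => hX25 ((hq ▸ Nat.mul_dvd_mul_left 5 hh).trans (card_subgroup_dvd_card K)))
    have hXS : ∀ S : Sylow 5 ↥X, Nat.card ↥(S : Subgroup ↥X) = 5 := fun S => by
      obtain ⟨q, hq⟩ := hK5.trans (card_subgroup_dvd_card K)
      simpa using Cfsg.Lib.Small.card_sylow_of_factor S (a := 1) (m := q) (by rw [hq, pow_one])
        (fun hh => hX25 (hq ▸ Nat.mul_dvd_mul_left 5 hh))
    have hc : Cfsg.Lib.SameOrder.cnt ↥K 5 = Cfsg.Lib.SameOrder.cnt ↥X 5 := Nat.card_congr
      { toFun := fun g => ⟨g.1.1, by rw [Subgroup.orderOf_coe]; exact g.2⟩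
        invFun := fun g => ⟨⟨g.1, hin g.1 g.2⟩, by rw [← Subgroup.orderOf_coe]; exact g.2⟩
        left_inv := fun g => rfl
        right_inv := fun g => rfl }
    rw [Cfsg.Lib.M12Nse.cnt_prime hKS, Cfsg.Lib.M12Nse.cnt_prime hXS, ← hj] at hc
    have hK2 : 2 ∣ Nat.card ↥K := by
      obtain ⟨S⟩ : Nonempty (Sylow 5 ↥K) := inferInstance
      refine (Nat.eq_of_mul_eq_mul_left (by norm_num : 0 < 5 - 1) hc).symm ▸ h2j |>.trans ?_
      exact (dvd_mul_left _ _).trans (dvd_of_eq (Cfsg.Lib.Small.card_normalizer_mul S))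
    obtain ⟨v, hv⟩ := exists_prime_orderOf_dvd_card' (G := ↥K) 2 hK2
    rw [← Subgroup.orderOf_coe, ← Subgroup.orderOf_coe] at hv
    refine ⟨((v : ↥X) : G), by rw [← pow_two, ← hv, pow_orderOf_eq_one],
      fun e => by rw [e, orderOf_one] at hv; omega, ?_⟩
    rw [show (9 : ℕ) = Nat.card ↥Q by rw [hQ]; norm_num]
    exact Subgroup.card_dvd_of_le fun q hq => mem_centralizer_singleton_iff.2 (mem_centralizer_iff.1 v.2 q hq)

end Y

end Cfsg.Lib.M12Order
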