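import Cfsg.Agent.M12Order.Values
import Cfsg.Agent.M12Order.FiveLocal

/-!
The elements of order five of a simple group of order 95040.
-/

set_option autoImplicit false
set_option linter.unusedSectionVars false
set_option linter.style.haveILetI false

namespace Cfsg.Lib.M12Order

open Subgroup Cfsg.Lib.Chars Cfsg.Lib.Blocks Cfsg.Lib.Blocks.SmallOrder
open scoped _root_.Classical

universe u

variable {G : Type u} [Group G] [Fintype G] [IsSimpleGroup G] [Fact (Nat.Prime 11)]

theorem orderOf_two {u : G} (h : u * u = 1) (h1 : u ≠ 1) : orderOf u = 2 :=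
  orderOf_eq_prime (p := 2) (by rw [pow_two, h]) h1

/-- The centraliser of the product lies in both centralisers. -/
theorem cent_mul_dvd {y u : G} (hy : orderOf y = 5) (hc : Commute y u) (hu : u ^ 4 = 1) :
    Nat.card ↥(centralizer ({y * u} : Set G)) ∣ Nat.card ↥(centralizer ({y} : Set G)) := by
  refine Subgroup.card_dvd_of_le fun g hg => mem_centralizer_singleton_iff.2 ?_
  have h := (show Commute g (y * u) from mem_centralizer_singleton_iff.1 hg).pow_right 16
  rw [hc.mul_pow, show u ^ 16 = 1 by rw [show 16 = 4 * 4 from rfl, pow_mul, hu, one_pow], mul_one,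
    show y ^ 16 = y by rw [show 16 = 5 * 3 + 1 from rfl, pow_succ, pow_mul, show y ^ 5 = 1 by rw [← hy, pow_orderOf_eq_one], one_pow, one_mul]] at h
  exact h.eq

namespace Blk

variable (B : Blk G)

theorem five_not_dvd_of_pow {u : G} (hu : u ^ 4 = 1) : ¬ 5 ∣ orderOf u := fun hd => by
  have := hd.trans (orderOf_dvd_of_pow_eq_one hu)
  norm_num at this

theorem orderOf_mul_five {y u : G} (hy : orderOf y = 5) (hc : Commute y u) (hu : u ^ 4 = 1) :
    orderOf (y * u) = 5 * orderOf u ∧ orderOf u ∣ 4 := by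
  have h4 := orderOf_dvd_of_pow_eq_one hu
  refine ⟨?_, h4⟩
  rw [hc.orderOf_mul_eq_mul_orderOf_of_coprime, hy]
  rw [hy]
  exact Nat.Coprime.coprime_dvd_right h4 (by norm_num)

theorem regular_five {y u : G} (hy : orderOf y = 5) (hc : Commute y u) (hu : u ^ 4 = 1) :
    ¬ 11 ∣ orderOf (y * u) := fun hd => by
  have := hd.trans ((orderOf_mul_five hy hc hu).1 ▸ Nat.mul_dvd_mul_left 5 (orderOf_mul_five hy hc hu).2)
  norm_num at this

theorem natAbs_deg {i : Fin 4} : (((B.z i).natAbs : ℤ) : ℂ) = (deg (B.c i : G → ℂ) : ℂ) := by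
  rw [(B.sign_eq i).2, Int.cast_natCast]

/-- An element of order five with centraliser of order 45 is impossible. -/
theorem no_forty_five (B : Blk G) {y : G} (hy : orderOf y = 5) (hC : Nat.card ↥(centralizer ({y} : Set G)) = 45)
    (h2 : ∀ g : G, g * y * g⁻¹ ≠ y ^ 2) (hinv : ∃ g : G, g * y * g⁻¹ = y⁻¹) {i : G} (hi : i * i = 1)
    (hi1 : i ≠ 1) (h9 : 9 ∣ Nat.card ↥(centralizer ({i} : Set G))) : False := by
  have hy5 : y ^ 5 = 1 := by rw [← hy, pow_orderOf_eq_one]
  have hy2 : orderOf (y ^ 2) = 5 := by rw [orderOf_pow' y two_ne_zero, hy]; rfl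
  have hne : y ≠ y ^ 2 := fun e => by
    rw [pow_two, left_eq_mul] at e
    rw [e, orderOf_one] at hy; norm_num at hy
  have hC2 : Nat.card ↥(centralizer ({y ^ 2} : Set G)) = 45 := by
    rw [← centralizer_zpowers, zpowers_eq_of_pow hy hy2 (pow_mem (mem_zpowers y) 2), centralizer_zpowers, hC]
  set S : Finset G := {y, y ^ 2} with hS
  have hcard : S.card = 2 := Finset.card_pair hne
  have hmem : ∀ h ∈ S, orderOf h = 5 ∧ Nat.card ↥(centralizer ({h} : Set G)) = 45 := fun h hh => by
    rcases Finset.mem_insert.1 hh with rfl | hh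
    · exact ⟨hy, hC⟩
    · rw [Finset.mem_singleton.1 hh]; exact ⟨hy2, hC2⟩
  have hsep : ∀ h ∈ S, ∀ h' ∈ S, IsConj h h' → h = h' := by
    have hn : ¬ IsConj y (y ^ 2) := fun e => by obtain ⟨g, hg⟩ := isConj_iff.1 e; exact h2 g hg
    intro h hh h' hh' hc
    simp only [S, Finset.mem_insert, Finset.mem_singleton] at hh hh'
    rcases hh with rfl | rfl <;> rcases hh' with rfl | rfl
    · rfl
    · exact absurd hc hn
    · exact absurd hc.symm hn
    · rfl
  -- the sums are rational
  obtain ⟨g, hg⟩ := hinv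
  have hy4 : y ^ 4 = y⁻¹ := eq_inv_of_mul_eq_one_left (by rw [← pow_succ, hy5])
  have hint : ∀ χ : IrrCharacter G, ∃ r : ℤ, ∑ h ∈ S, (χ : G → ℂ) h = (r : ℂ) := fun χ => by
    haveI : NeZero 5 := ⟨by norm_num⟩
    refine exists_int_of_fixed χ S (m := 5) (fun h hh => (hmem h hh).1.dvd) fun σ k hk hσ => ?_
    have hval : ∀ a b : G, IsConj a b → (χ : G → ℂ) a = (χ : G → ℂ) b := fun a b hab => by
      obtain ⟨c, rfl⟩ := isConj_iff.1 hab
      exact (isClassFunction_irr χ a c).symm
    rw [map_sum, Finset.sum_congr rfl fun h hh =>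
      hσ.apply_character (isCharacter_of_irr χ.2) (hmem h hh).1.dvd, hS, Finset.sum_pair hne, Finset.sum_pair hne]
    have hmod : ∀ n : ℕ, y ^ n = y ^ (n % 5) := fun n => by rw [← hy, pow_mod_orderOf]
    have e1 : (χ : G → ℂ) (y ^ 4) = (χ : G → ℂ) y := (hval _ _ (isConj_iff.2 ⟨g, hg.trans hy4.symm⟩)).symm
    have e2 : (χ : G → ℂ) (y ^ 3) = (χ : G → ℂ) (y ^ 2) := by
      refine (hval _ _ (isConj_iff.2 ⟨g, ?_⟩)).symm
      rw [← conj_pow, hg, ← hy4, ← pow_mul, hmod (4 * 2)]
    have hk0 : k % 5 ≠ 0 := fun e => by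
      have hd : 5 ∣ k := Nat.dvd_of_mod_eq_zero e
      have := Nat.eq_one_of_dvd_coprimes hk hd dvd_rfl
      norm_num at this
    rw [← pow_mul, hmod k, hmod (2 * k), Nat.mul_mod 2 k 5]
    have := Nat.mod_lt k (show 5 > 0 by norm_num)
    interval_cases hkk : k % 5
    · exact absurd rfl hk0
    all_goals simp only [pow_one, Nat.reduceMul, Nat.reduceMod]
    · rw [e1, add_comm]
    · rw [e2, add_comm]
    · rw [e1, e2]
  choose r hr using fun j => hint (B.c j)
  have V : B.Vals S r := ⟨fun h hh => by rw [(hmem h hh).1]; norm_num, hr⟩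
  obtain ⟨M5, hM5⟩ := exists_isPModular (show Nat.Prime 5 by norm_num)
  have hsmall : ∀ χ : IrrCharacter G, Small M5 (∑ h ∈ S, (χ : G → ℂ) h - ((2 * (deg (χ : G → ℂ) : ℤ) : ℤ) : ℂ)) := by
    intro χ
    have h1 := congr_five (χ := χ) hy (Commute.one_right y) (by rw [orderOf_one]; norm_num) hM5
    have h2 := congr_five (χ := χ) hy2 (Commute.one_right (y ^ 2)) (by rw [orderOf_one]; norm_num) hM5
    rw [mul_one, irr_apply_one_eq_deg] at h1 h2
    rw [hS, Finset.sum_pair hne]
    convert h1.add h2 using 1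
    push_cast
    ring
  have hsol := V.mem_fiveSols (fun h hh => (hmem h hh).1 ▸ dvd_rfl) hsep (fun h hh => (hmem h hh).2) hM5
    (t := fun j => 2 * ((B.z j).natAbs : ℤ)) (tw := 2 * ((aOf (v4 B.z)).natAbs : ℤ))
    (fun j => by rw [(B.sign_eq j).2]; exact hsmall _) (by rw [B.exc_sign.2]; exact hsmall _)
  obtain ⟨ri, hri, hwi, hC', hinvol⟩ := mem_invSols (B := B) hi hi1
  have hinvc := V.invCount_ok hcard (fun h hh => ⟨fun e => by
    have := (hmem h hh).1; rw [e, orderOf_one] at this; norm_num at this, (hmem h hh).2 ▸ dvd_rfl⟩) hi hri hwi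
  rw [hcard] at hsol
  have hnum := forty_five_num
  simp only [List.all_eq_true, Bool.or_eq_true, Bool.not_eq_true', decide_eq_false_iff_not] at hnum
  have hh := (hnum _ B.zv_mem _ hsol _ hC').resolve_left (not_not.2 h9) _ hinvol
  rw [hinvc] at hh
  exact Bool.noConfusion hh

/-- The values on an element of order five times a commuting 2-element. -/
theorem five_mul_values (hz : v4 B.z = zSp) {y u : G} (hy : orderOf y = 5) (hc : Commute y u) (hu : u ^ 4 = 1)
    {t : Fin 4 → ℤ} {tw : ℤ} (ht : ∀ j, (B.c j : G → ℂ) u = (t j : ℂ)) (htw : (B.ν 1 : G → ℂ) u = (tw : ℂ)) :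
    ∃ r : Fin 4 → ℤ, (∀ j, (B.c j : G → ℂ) (y * u) = (r j : ℂ)) ∧
      (B.ν 1 : G → ℂ) (y * u) = (lin zSp 1 (v4 r) : ℂ) ∧
      v4 r ∈ fiveSols zSp 1 (Nat.card ↥(centralizer ({y * u} : Set G)))
        (Nat.card ↥(centralizer ({y * u} : Set G))) (v4 t) tw := by
  choose r hr using fun j => B.exists_int_value hz (g := y * u) j
  have V : B.Vals {y * u} r := ⟨fun h hh => by rw [Finset.mem_singleton.1 hh]; exact regular_five hy hc hu,
    fun j => by rw [Finset.sum_singleton, hr j]⟩
  have hw := V.exc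
  rw [Finset.sum_singleton, Finset.card_singleton, hz, Nat.cast_one] at hw
  refine ⟨r, hr, hw, ?_⟩
  obtain ⟨M5, hM5⟩ := exists_isPModular (show Nat.Prime 5 by norm_num)
  have hsol := V.mem_fiveSols (C := Nat.card ↥(centralizer ({y * u} : Set G)))
    (fun h hh => by rw [Finset.mem_singleton.1 hh, (orderOf_mul_five hy hc hu).1]; exact dvd_mul_right _ _)
    (fun h hh h' hh' _ => by rw [Finset.mem_singleton.1 hh, Finset.mem_singleton.1 hh'])
    (fun h hh => by rw [Finset.mem_singleton.1 hh]) hM5 (t := t) (tw := tw)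
    (fun j => by rw [Finset.sum_singleton, ← ht j]; exact congr_five hy hc (five_not_dvd_of_pow hu) hM5)
    (by rw [Finset.sum_singleton, ← htw]; exact congr_five hy hc (five_not_dvd_of_pow hu) hM5)
  rwa [Finset.card_singleton, one_mul, hz, Nat.cast_one] at hsol

theorem five_values (hz : v4 B.z = zSp) {y : G} (hy : orderOf y = 5) :
    ∃ r : Fin 4 → ℤ, (∀ j, (B.c j : G → ℂ) y = (r j : ℂ)) ∧ (B.ν 1 : G → ℂ) y = (lin zSp 1 (v4 r) : ℂ) ∧
      v4 r ∈ fiveSols zSp 1 (Nat.card ↥(centralizer ({y} : Set G))) (Nat.card ↥(centralizer ({y} : Set G)))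
        (absV zSp) 16 := by
  obtain ⟨hd, hdν, -, -⟩ := deg_special (B := B) hz
  have h := B.five_mul_values hz hy (Commute.one_right y) (one_pow 4) (t := fun j => ((B.z j).natAbs : ℤ))
    (tw := 16) (fun j => by rw [irr_apply_one_eq_deg, natAbs_deg]) (by rw [irr_apply_one_eq_deg, hdν]; norm_num)
  rw [mul_one] at h
  rwa [show v4 (fun j => ((B.z j).natAbs : ℤ)) = absV zSp by rw [← hz]; rfl] at h

theorem y_table {C : ℕ} {s : V4} (h : C = 10 ∨ C = 20) (hs : s ∈ fiveSols zSp 1 C C (absV zSp) 16) :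
    s = (0, -1, 0, -1) ∧ lin zSp 1 s = 1 := by
  have hn := y_num.1
  simp only [List.all_eq_true, decide_eq_true_eq] at hn
  exact hn C (by simpa using h) s hs

theorem y_empty {C : ℕ} {s : V4} (h : C = 60 ∨ C = 120) (hs : s ∈ fiveSols zSp 1 C C (absV zSp) 16) : False := by
  have hn := y_num.2
  simp only [List.all_eq_true, List.isEmpty_iff] at hn
  rw [hn C (by simpa using h)] at hs
  exact List.not_mem_nil hs

theorem yu_table {C : ℕ} {s : V4} (h : C = 10 ∨ C = 20) (hs : s ∈ fiveSols zSp 1 C C (0, 6, 5, 4) 4) :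
    s = (0, 1, 0, -1) ∧ lin zSp 1 s = -1 := by
  have hn := yu_num
  simp only [List.all_eq_true, decide_eq_true_eq] at hn
  exact hn C (by simpa using h) s hs

include B in
/-- The number of Sylow five-subgroups. -/
theorem card_sylow_five : Nat.card (Sylow 5 G) = 2376 := by
  obtain ⟨y, hy⟩ := exists_prime_orderOf_dvd_card' (G := G) 5 (by rw [B.card]; norm_num)
    (hp := ⟨by norm_num⟩)
  have hG := B.card
  have hmul := norm_mul hG hy
  rcases sylow_five_cases hG hy with h | h | h | h | h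
  · exfalso
    rw [h] at hmul
    obtain ⟨u, R, hu, hu1, huy, hR, hRN, hRu⟩ := exists_central_invol hG hy (a := 5) (by norm_num)
      (by rw [show Nat.card ↥(normalizer (zpowers y : Set G)) = 1440 by omega]; norm_num)
    have h32 := Subgroup.card_dvd_of_le hRu
    rw [hR] at h32
    have h5 := Subgroup.orderOf_dvd_natCard _ (mem_centralizer_singleton_iff.2 huy.symm : y ∈ centralizer ({u} : Set G))
    rw [hy] at h5
    rcases (five_invol (B := B) hu hu1 h5).2.1 with e | e <;> rw [e] at h32 <;> norm_num at h32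
  · exact (no_540 hG hy h).elim
  · exfalso
    rw [h] at hmul
    obtain ⟨u, R, hu, hu1, huy, hR, hRN, hRu⟩ := exists_central_invol hG hy (a := 4) (by norm_num)
      (by rw [show Nat.card ↥(normalizer (zpowers y : Set G)) = 240 by omega]; norm_num)
    have h5 := Subgroup.orderOf_dvd_natCard _ (mem_centralizer_singleton_iff.2 huy.symm : y ∈ centralizer ({u} : Set G))
    rw [hy] at h5
    obtain ⟨r, -, -, hs⟩ := B.five_values (five_invol (B := B) hu hu1 h5).1 hy
    exact y_empty (by rcases norm_index hG hy with e | e <;> omega) hs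
  · exfalso
    obtain ⟨hC, h2, hinv, i, hi, hi1, h9⟩ := case_90 hG hy h
    exact B.no_forty_five hy hC h2 hinv hi hi1 h9
  · exact h

/-- The facts about an element of order five. -/
structure FiveData (y u : G) : Prop where
  zsp : v4 B.z = zSp
  y_five : orderOf y = 5
  u_two : orderOf u = 2
  comm : u * y = y * u
  cent : Nat.card ↥(centralizer ({y} : Set G)) = 10
  norm : Nat.card ↥(normalizer (zpowers y : Set G)) = 40
  cent_u : Nat.card ↥(centralizer ({u} : Set G)) = 240
  cent_mul : Nat.card ↥(centralizer ({y * u} : Set G)) = 10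
  u_val : ∀ j, (B.c j : G → ℂ) u = ((![0, 6, 5, 4] j : ℤ) : ℂ)
  u_exc : (B.ν 1 : G → ℂ) u = 4
  y_val : ∀ j, (B.c j : G → ℂ) y = ((![0, -1, 0, -1] j : ℤ) : ℂ)
  y_exc : (B.ν 1 : G → ℂ) y = 1
  mul_val : ∀ j, (B.c j : G → ℂ) (y * u) = ((![0, 1, 0, -1] j : ℤ) : ℂ)
  mul_exc : (B.ν 1 : G → ℂ) (y * u) = -1

/-- The element of order five generates with its normaliser a group of order forty. -/
theorem exists_fiveData {y : G} (hy : orderOf y = 5) : ∃ u, FiveData B y u := by
  have hG := B.card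
  have hmul := norm_mul hG hy
  rw [B.card_sylow_five] at hmul
  have hN : Nat.card ↥(normalizer (zpowers y : Set G)) = 40 := by omega
  obtain ⟨u, R, hu, hu1, huy, hR, hRN, hRu⟩ := exists_central_invol hG hy (a := 3) le_rfl
    (by rw [hN]; norm_num)
  have hu2 := orderOf_two hu hu1
  have hu4 : u ^ 4 = 1 := by rw [show 4 = 2 * 2 from rfl, pow_mul, pow_two u, hu, one_pow]
  have hyu : Commute y u := huy.symm
  have hyC : y ∈ centralizer ({u} : Set G) := mem_centralizer_singleton_iff.2 huy.symm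
  have h5 := Subgroup.orderOf_dvd_natCard _ hyC
  rw [hy] at h5
  obtain ⟨hz, hCu, huv, huw⟩ := five_invol (B := B) hu hu1 h5
  haveI : Fact (Nat.Prime 5) := ⟨by norm_num⟩
  have hCu240 : Nat.card ↥(centralizer ({u} : Set G)) = 240 := by
    have h := Cfsg.Lib.MathieuEleven.sylow_count (centralizer ({u} : Set G)) (A := zpowers y)
      (zpowers_le.2 hyC) (n := 1) (by rw [Nat.card_zpowers, hy, pow_one]) (fun hd => by
        have := hd.trans (card_subgroup_dvd_card _)
        rw [hG] at this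
        norm_num at this)
    have hi : Nat.card ↥(centralizer ({u} : Set G) ⊓ normalizer (zpowers y : Set G)) = 40 := by
      have h1 := hN ▸ Subgroup.card_dvd_of_le (inf_le_right : centralizer ({u} : Set G) ⊓ normalizer (zpowers y : Set G) ≤ _)
      have h2 : 8 ∣ Nat.card ↥(centralizer ({u} : Set G) ⊓ normalizer (zpowers y : Set G)) :=
        (show (8 : ℕ) = Nat.card ↥R by rw [hR]; norm_num) ▸ Subgroup.card_dvd_of_le (le_inf hRu hRN)
      have h3 : 5 ∣ Nat.card ↥(centralizer ({u} : Set G) ⊓ normalizer (zpowers y : Set G)) := by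
        have := Subgroup.orderOf_dvd_natCard (centralizer ({u} : Set G) ⊓ normalizer (zpowers y : Set G))
          (⟨hyC, le_normalizer (mem_zpowers y)⟩ : y ∈ centralizer ({u} : Set G) ⊓ normalizer (zpowers y : Set G))
        rwa [hy] at this
      exact Nat.dvd_antisymm h1 (Nat.Coprime.mul_dvd_of_dvd_of_dvd (by norm_num : Nat.Coprime 8 5) h2 h3)
    rw [hi] at h
    rcases hCu with e | e
    · rw [e] at h; omega
    · exact e
  obtain ⟨ry, hry, hwy, hsy⟩ := B.five_values hz hy
  have hC : Nat.card ↥(centralizer ({y} : Set G)) = 10 ∨ Nat.card ↥(centralizer ({y} : Set G)) = 20 := by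
    rcases norm_index hG hy with e | e <;> omega
  obtain ⟨ey, ewy⟩ := y_table hC hsy
  simp only [v4, Prod.mk.injEq] at ey
  obtain ⟨y0, y1, y2, y3⟩ := ey
  -- an element times a commuting involution
  have hmulval : ∀ v : G, v * v = 1 → v ≠ 1 → Commute y v →
      (∀ j, (B.c j : G → ℂ) (y * v) = ((![0, 1, 0, -1] j : ℤ) : ℂ)) ∧ (B.ν 1 : G → ℂ) (y * v) = -1 ∧
      (Nat.card ↥(centralizer ({y * v} : Set G)) = 10 ∨ Nat.card ↥(centralizer ({y * v} : Set G)) = 20) := by
    intro v hv hv1 hc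
    have hv4 : v ^ 4 = 1 := by rw [show 4 = 2 * 2 from rfl, pow_mul, pow_two v, hv, one_pow]
    have h5v := Subgroup.orderOf_dvd_natCard _ (mem_centralizer_singleton_iff.2 hc.eq : y ∈ centralizer ({v} : Set G))
    rw [hy] at h5v
    obtain ⟨-, -, hvv, hvw⟩ := five_invol (B := B) hv hv1 h5v
    obtain ⟨r, hr, hw, hs⟩ := B.five_mul_values hz hy hc hv4 hvv (tw := 4) (by rw [hvw]; norm_num)
    have hd := cent_mul_dvd hy hc hv4
    have ho : 10 ∣ Nat.card ↥(centralizer ({y * v} : Set G)) := by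
      have := Subgroup.orderOf_dvd_natCard _ (mem_centralizer_singleton_iff.2 (rfl : y * v * (y * v) = y * v * (y * v)))
      rwa [(orderOf_mul_five hy hc hv4).1, orderOf_two hv hv1] at this
    have hC' : Nat.card ↥(centralizer ({y * v} : Set G)) = 10 ∨ Nat.card ↥(centralizer ({y * v} : Set G)) = 20 := by
      obtain ⟨q, hq⟩ := ho
      have hle := Nat.le_of_dvd Nat.card_pos hd
      have := Nat.card_pos (α := ↥(centralizer ({y * v} : Set G)))
      omega
    obtain ⟨er, ew⟩ := yu_table hC' (show v4 r ∈ fiveSols zSp 1 _ _ (0, 6, 5, 4) 4 from hs)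
    simp only [v4, Prod.mk.injEq] at er
    obtain ⟨r0, r1, r2, r3⟩ := er
    refine ⟨fun j => ?_, by rw [hw, v4, r0, r1, r2, r3] ; norm_num [lin, sgn, aOf, zSp], hC'⟩
    rw [hr j]
    fin_cases j <;> simp [r0, r1, r2, r3]
  have hC10 : Nat.card ↥(centralizer ({y} : Set G)) = 10 := by
    refine hC.resolve_right fun h20 => ?_
    set C := centralizer ({y} : Set G)
    haveI : Fact (Nat.Prime 2) := ⟨Nat.prime_two⟩
    obtain ⟨K, hK⟩ := Sylow.exists_subgroup_card_pow_prime (G := ↥C) 2 (n := 2) (by rw [h20]; norm_num)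
    set V := K.map C.subtype
    have hV : Nat.card ↥V = 4 := by rw [Subgroup.card_map_of_injective C.subtype_injective, hK]; norm_num
    have hVc : ∀ v ∈ V, Commute y v := fun v hv =>
      (mem_centralizer_singleton_iff.1 (Subgroup.map_subtype_le K hv)).symm
    have hv4 : ∀ v ∈ V, v ^ 4 = 1 := fun v hv => by
      have := congrArg Subtype.val (pow_card_eq_one' (x := (⟨v, hv⟩ : ↥V)))
      rwa [hV] at this
    choose f hf using fun g => B.exists_int_value hz (g := g) 1
    have havg : ∀ D : Subgroup G, D ≤ V → IsIntegral ℤ ((Nat.card ↥D : ℂ)⁻¹ * ∑ d : ↥D, (B.c 1 : G → ℂ) (y * d)) :=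
      fun D hD => isIntegral_avg_coset (isCharacter_of_irr (B.c 1).2) D
        (mem_centralizer_iff.2 fun b hb => (hVc b (hD hb)).eq.symm)
    have hdvd : ∀ D : Subgroup G, D ≤ V → (Nat.card ↥D : ℤ) ∣ ∑ d : ↥D, f (y * d) := fun D hD => by
      have h := havg D hD
      rw [Finset.sum_congr rfl fun (d : ↥D) _ => hf (y * d), ← Int.cast_sum] at h
      have e : ((Nat.card ↥D : ℂ))⁻¹ * ((∑ d : ↥D, f (y * d) : ℤ) : ℂ) =
          ((((∑ d : ↥D, f (y * d) : ℤ) : ℚ) / (Nat.card ↥D : ℚ) : ℚ) : ℂ) := by push_cast; ring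
      rw [e] at h
      obtain ⟨m, hm⟩ := int_of_isIntegral_rat h
      refine ⟨m, ?_⟩
      rw [div_eq_iff (by exact_mod_cast (Nat.card_pos (α := ↥D)).ne')] at hm
      exact_mod_cast (hm.trans (mul_comm _ _))
    have hfy : f y = -1 := Int.cast_injective (α := ℂ) (by rw [← hf, hry 1, y1])
    have hfinv : ∀ v ∈ V, v * v = 1 → v ≠ 1 → f (y * v) = 1 := fun v hv h2 h1 => Int.cast_injective (α := ℂ) (by
      rw [← hf, (hmulval v h2 h1 (hVc v hv)).1 1]; rfl)
    by_cases h4 : ∃ v ∈ V, v * v ≠ 1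
    · obtain ⟨v, hv, hv2⟩ := h4
      have hv4' := hv4 v hv
      have ho : orderOf v = 4 := orderOf_eq_prime_pow (p := 2) (n := 1) (by rw [pow_one, pow_two]; exact hv2) hv4'
      have hs := hdvd (zpowers v) (zpowers_le.2 hv)
      let e : Fin 4 ≃ ↥(zpowers v) := (finCongr ho.symm).trans (finEquivZPowers (isOfFinOrder_of_finite v))
      have he : ∀ i : Fin 4, ((e i : ↥(zpowers v)) : G) = v ^ (i : ℕ) := fun i => by
        simp only [e, Equiv.trans_apply, finEquivZPowers_apply]
        rfl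
      rw [← Equiv.sum_comp e, Fin.sum_univ_four, he, he, he, he, Nat.card_zpowers, ho] at hs
      simp only [Fin.val_zero, Fin.val_one, Fin.val_two, show ((3 : Fin 4) : ℕ) = 3 from rfl, pow_zero, mul_one,
        pow_one, hfy] at hs
      rw [hfinv (v ^ 2) (V.pow_mem hv 2) (by rw [← pow_add]; exact hv4') (by rw [pow_two]; exact hv2)] at hs
      have h3 : f (y * v ^ 3) = f (y * v) := by
        obtain ⟨σ, hσ⟩ := exists_galConj_auto (m := 20) (k := 11) (by norm_num)
        have h := hσ.apply_character (isCharacter_of_irr (B.c 1).2) (g := y * v)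
          (by rw [(orderOf_mul_five hy (hVc v hv) hv4').1, ho])
        rw [hf, map_intCast, (hVc v hv).mul_pow,
          show y ^ 11 = y by rw [show 11 = 5 * 2 + 1 from rfl, pow_succ, pow_mul,
            show y ^ 5 = 1 by rw [← hy, pow_orderOf_eq_one], one_pow, one_mul],
          show v ^ 11 = v ^ 3 by rw [show 11 = 4 * 2 + 3 from rfl, pow_add, pow_mul, hv4', one_pow, one_mul],
          hf] at h
        exact Int.cast_injective h.symm
      have hodd : (2 : ℤ) ∣ f (y * v) - f y := by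
        obtain ⟨M2, hM2⟩ := exists_isPModular Nat.prime_two
        have h := small_apply_mul_sub hM2 (isCharacter_of_irr (B.c 1).2) (x := v) (y := y) (hVc v hv).symm
          ⟨2, by rw [ho]; norm_num⟩ (by rw [hy]; norm_num)
        rw [(hVc v hv).eq.symm, hf, hf, ← Int.cast_sub] at h
        exact_mod_cast (small_intCast_iff hM2 _).1 h
      rw [h3] at hs
      rw [hfy] at hodd
      push_cast at hs
      omega
    · push Not at h4
      have hs := hdvd V le_rfl
      rw [hV, ← Finset.add_sum_erase _ _ (Finset.mem_univ (1 : ↥V)),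
        Finset.sum_congr rfl (g := fun _ : ↥V => (1 : ℤ)) (fun d hd => hfinv d d.2 (h4 d d.2)
          (fun e => Finset.ne_of_mem_erase hd (Subtype.ext e))),
        Finset.sum_const, Finset.card_erase_of_mem (Finset.mem_univ _), Finset.card_univ, ← Nat.card_eq_fintype_card,
        hV, OneMemClass.coe_one, mul_one, hfy] at hs
      norm_num at hs
  obtain ⟨hm, hmw, hmC⟩ := hmulval u hu hu1 hyu
  have hcm : Nat.card ↥(centralizer ({y * u} : Set G)) = 10 := by
    have hd := cent_mul_dvd hy hyu hu4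
    rw [hC10] at hd
    rcases hmC with e | e
    · exact e
    · rw [e] at hd; norm_num at hd
  refine ⟨u, hz, hy, hu2, huy, hC10, hN, hCu240, hcm, huv, huw, fun j => ?_, ?_, hm, hmw⟩
  · rw [hry j]
    fin_cases j <;> simp [y0, y1, y2, y3]
  · rw [hwy, v4, y0, y1, y2, y3]; norm_num [lin, sgn, aOf, zSp]

end Blk

end Cfsg.Lib.M12Order
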