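import Cfsg.Agent.M12Order.Census
import Cfsg.Agent.M12Nse.Main
import Cfsg.Agent.Golay.Conj

/-!
A simple group of order 95040 is the Mathieu group of degree twelve.
-/

set_option autoImplicit false
set_option linter.unusedSectionVars false
set_option linter.style.haveILetI false
set_option maxRecDepth 100000

namespace Cfsg.Lib.M12Order

open Subgroup Cfsg.Lib.SameOrder
open scoped Pointwise
open Cfsg.Lib.M12Nse (Local UData Frame E192 Par e0 ez uK sK)

universe u

set_option synthInstance.maxSize 4000 in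
set_option synthInstance.maxHeartbeats 400000 in
theorem invol_count : Fintype.card
    {x : E192 // Par.emul ⟨false, 0, 0, 1⟩ x x = e0 ∧ x ≠ e0 ∧ x ≠ ez} = 26 := by decide +kernel

set_option synthInstance.maxSize 4000 in
set_option synthInstance.maxHeartbeats 400000 in
theorem roots_card_twenty : Fintype.card {x : E192 // Par.emul ⟨false, 1, 0, 1⟩ x x = ez} = 20 := by decide +kernel

variable {G : Type u} [Group G] [Fintype G] [IsSimpleGroup G] [Fact (Nat.Prime 11)]

/-- Square roots correspond under conjugation. -/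
theorem card_roots_conj {z x : G} (h : IsConj z x) :
    Nat.card {t : G // t * t = x} = Nat.card {t : G // t * t = z} := by
  obtain ⟨c, rfl⟩ := isConj_iff.1 h
  refine (Nat.card_congr ((MulAut.conj c).toEquiv.subtypeEquiv fun t => ?_)).symm
  show t * t = z ↔ c * t * c⁻¹ * (c * t * c⁻¹) = c * z * c⁻¹
  rw [show c * t * c⁻¹ * (c * t * c⁻¹) = c * (t * t) * c⁻¹ by group]
  exact ⟨fun e => by rw [e], fun e => mul_left_cancel (mul_right_cancel e)⟩

/-- Pairs from a class correspond under conjugation. -/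
theorem card_pairs_conj {z x : G} (h : IsConj z x) :
    Nat.card {p : G × G // IsConj z p.1 ∧ IsConj z p.2 ∧ p.1 * p.2 = x} =
      Nat.card {p : G × G // IsConj z p.1 ∧ IsConj z p.2 ∧ p.1 * p.2 = z} := by
  obtain ⟨c, rfl⟩ := isConj_iff.1 h
  have hc : ∀ a : G, IsConj z (c * a * c⁻¹) ↔ IsConj z a := fun a =>
    ⟨fun e => e.trans (isConj_iff.2 ⟨c⁻¹, by group⟩), fun e => e.trans (isConj_iff.2 ⟨c, rfl⟩)⟩
  refine (Nat.card_congr (((MulAut.conj c).toEquiv.prodCongr (MulAut.conj c).toEquiv).subtypeEquiv fun p => ?_)).symm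
  obtain ⟨a, b⟩ := p
  show IsConj z a ∧ IsConj z b ∧ a * b = z ↔
    IsConj z (c * a * c⁻¹) ∧ IsConj z (c * b * c⁻¹) ∧ c * a * c⁻¹ * (c * b * c⁻¹) = c * z * c⁻¹
  rw [hc, hc, show c * a * c⁻¹ * (c * b * c⁻¹) = c * (a * b) * c⁻¹ by group]
  exact and_congr Iff.rfl (and_congr Iff.rfl ⟨fun e => by rw [e], fun e => mul_left_cancel (mul_right_cancel e)⟩)

namespace Blk

variable {B : Blk G} {y u z : G}

theorem local_five (B : Blk G) {q : G} (hq : orderOf q = 5) : Nat.card ↥(centralizer ({q} : Set G)) = 10 ∧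
    ∃ u, orderOf u = 2 ∧ u * q = q * u ∧ ∀ v, orderOf v = 2 → v * q = q * v → v = u := by
  obtain ⟨w, F⟩ := B.exists_fiveData hq
  refine ⟨F.cent, w, F.u_two, F.comm, fun v hv hvq => ?_⟩
  have ho : orderOf (q * w) = 10 := by
    rw [(show Commute q w from F.comm.symm).orderOf_mul_eq_mul_orderOf_of_coprime
      (by rw [hq, F.u_two]; norm_num), hq, F.u_two]
  have heq : zpowers (q * w) = centralizer ({q} : Set G) := by
    refine Subgroup.eq_of_le_of_card_ge (zpowers_le.2 (mem_centralizer_singleton_iff.2 ?_)) ?_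
    · exact ((Commute.refl q).mul_left (show Commute w q from F.comm)).eq
    · rw [Nat.card_zpowers, ho, F.cent]
  have key : ∀ s : G, orderOf s = 2 → s * q = q * s → s = (q * w) ^ 5 := by
    intro s hs hsq
    have hmem : s ∈ zpowers (q * w) := heq ▸ mem_centralizer_singleton_iff.2 hsq
    obtain ⟨n, hn⟩ := (isOfFinOrder_of_finite (q * w)).mem_powers_iff_mem_zpowers.2 hmem
    have hn' : (q * w) ^ n = s := hn
    have h2 : (q * w) ^ (n * 2) = 1 := by rw [pow_mul, hn', ← hs, pow_orderOf_eq_one]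
    have hd := orderOf_dvd_of_pow_eq_one h2
    rw [ho] at hd
    rw [← hn', ← pow_mod_orderOf, ho]
    rcases (show n % 10 = 0 ∨ n % 10 = 5 by omega) with e | e
    · rw [e, pow_zero]
      exfalso
      rw [← hn', ← pow_mod_orderOf, ho, e, pow_zero, orderOf_one] at hs
      omega
    · rw [e]
  exact (key v hv hvq).trans (key w F.u_two F.comm).symm

/-- The class of involutions of the census, and the other one. -/
theorem card_classes (S : Census (B := B) y u z) :
    {v : G | orderOf v = 2}.ncard = 891 := by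
  have hset : {v : G | orderOf v = 2} = {v : G | IsConj u v} ∪ {v : G | IsConj z v} := by
    ext v
    refine ⟨fun h => S.classes v h, ?_⟩
    rintro (h | h)
    · exact (orderOf_eq_of_isConj h).symm.trans S.five.u_two
    · exact (orderOf_eq_of_isConj h).symm.trans S.z_two
  have hdisj : Disjoint {v : G | IsConj u v} {v : G | IsConj z v} := Set.disjoint_left.2 fun v h1 h2 => by
    have := Cfsg.Lib.M12Nse.conj_card_centralizer (h1.trans h2.symm : IsConj u z)
    rw [S.cent_z, S.five.cent_u] at this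
    norm_num at this
  rw [hset, Set.ncard_union_eq hdisj (Set.toFinite _) (Set.toFinite _)]
  have h1 : {v : G | IsConj u v}.ncard = 396 := by
    rw [← Nat.card_coe_set_eq]
    exact (card_class_eq u).trans (by rw [B.card, S.five.cent_u])
  have h2 : {v : G | IsConj z v}.ncard = 495 := by
    rw [← Nat.card_coe_set_eq]
    exact (card_class_eq z).trans (by rw [B.card, S.cent_z])
  rw [h1, h2]

include B in
theorem local_facts (S : Census (B := B) y u z) : Local G where
  card := B.card
  normalizer_five P := by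
    haveI : Fact (Nat.Prime 5) := ⟨by norm_num⟩
    have hP : Nat.card ↥(P : Subgroup G) = 5 := card_sylow_five_eq B.card P
    obtain ⟨⟨q, hq⟩, hqo⟩ := exists_prime_orderOf_dvd_card' (G := ↥(P : Subgroup G)) 5 (by rw [hP])
    rw [← Subgroup.orderOf_coe] at hqo
    obtain ⟨w, F⟩ := B.exists_fiveData hqo
    rw [Cfsg.Lib.M12Nse.zpowers_eq_of_order hP hqo hq]
    exact F.norm
  cent_five hq := local_five B hq
  cent_eleven hx := cent_eleven B.card hx
  cnt_two := (Nat.card_coe_set_eq _).trans (card_classes S)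

set_option synthInstance.maxSize 4000 in
set_option synthInstance.maxHeartbeats 400000 in
/-- The theorem, from the census. -/
theorem iso_of_census (S : Census (B := B) y u z) : Nonempty (G ≃* ↥Cfsg.Spor.M12) := by
  have L := local_facts S
  have hF : Cfsg.Lib.M12Nse.IsFive u y := ⟨S.five.u_two, S.five.y_five, S.five.comm⟩
  obtain ⟨e, he⟩ := hF.exists_model L S.five.cent_u fun _ t _ _ _ ht => S.not_square t ht
  let D : UData G := ⟨u, y, L, hF, S.five.cent_u, Or.inl S.pairs, e, he⟩
  have hz : IsConj z D.z := (S.classes D.z D.z_two).resolve_left D.z_not_conj_u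
  have hroots : Nat.card {t : G // t * t = D.z} = 12 := (card_roots_conj hz).trans S.roots_z
  have hpairs : 27 ≤ Nat.card {p : G × G // IsConj z p.1 ∧ IsConj z p.2 ∧ p.1 * p.2 = D.z} :=
    (card_pairs_conj hz).symm ▸ S.pairs_z
  refine Cfsg.Lib.M12Nse.iso_of_uData D (fun F => ?_) (not_comm B.card)
  have hroot : ∀ P : Par, F.par.emul = P.emul → Nat.card {t : G // t * t = D.z} =
      Fintype.card {x : E192 // P.emul x x = ez} := by
    intro P hP
    rw [← Nat.card_eq_fintype_card]
    symm
    refine Nat.card_congr (Equiv.ofBijective (fun x => ⟨F.rel.nf x.1, ?_⟩) ⟨?_, ?_⟩)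
    · rw [← F.rel_sq, hP, x.2, F.nf_ez]
    · exact fun x x' h => Subtype.ext (F.nf_inj (congrArg Subtype.val h))
    · rintro ⟨g, hg⟩
      obtain ⟨x, rfl⟩ := F.nf_surj (g := g) (by rw [← hg]; group)
      rw [← F.rel_sq, hP] at hg
      exact ⟨⟨x, F.nf_inj (hg.trans F.nf_ez.symm)⟩, rfl⟩
  have htwo : F.eps = 0 ∨ F.eps = 1 := (Fin.exists_fin_two (p := fun e => F.eps = e)).1 ⟨F.eps, rfl⟩
  have hinv : F.inv = true := by
    by_contra h
    simp only [Bool.not_eq_true] at h
    obtain ⟨hp, hr⟩ := F.par_fixed h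
    rcases htwo with he0 | he1
    · have hP : F.par.emul = Par.emul ⟨false, 0, 0, 1⟩ := by rw [Frame.par, h, he0, hp, hr]
      obtain ⟨hzz, hz1⟩ := Cfsg.Lib.M12Nse.two_iff.1 D.z_two
      have hle : Nat.card {p : G × G // IsConj z p.1 ∧ IsConj z p.2 ∧ p.1 * p.2 = D.z} ≤
          Nat.card {g : G // g * g = 1 ∧ g ≠ 1 ∧ g ≠ D.z ∧ g * D.z = D.z * g} := by
        have h2 : ∀ {g : G}, IsConj z g → g * g = 1 ∧ g ≠ 1 := fun hg =>
          Cfsg.Lib.M12Nse.two_iff.1 ((orderOf_eq_of_isConj hg).symm.trans S.z_two)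
        have key : ∀ a b : G, IsConj z a → IsConj z b → a * b = D.z →
            a * a = 1 ∧ a ≠ 1 ∧ a ≠ D.z ∧ a * D.z = D.z * a := by
          intro a b ha hb h3
          refine ⟨(h2 ha).1, (h2 ha).2, fun e => ?_, ?_⟩
          · rw [← e, mul_eq_left] at h3
            exact (h2 hb).2 h3
          · have hz' : D.z⁻¹ = b * a := by
              rw [← h3, mul_inv_rev, inv_eq_of_mul_eq_one_right (h2 ha).1, inv_eq_of_mul_eq_one_right (h2 hb).1]
            rw [inv_eq_of_mul_eq_one_right hzz] at hz'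
            calc a * D.z = a * (b * a) := by rw [← hz']
              _ = a * b * a := by group
              _ = D.z * a := by rw [h3]
        refine Nat.card_le_card_of_injective (fun p => ⟨p.1.1, key _ _ p.2.1 p.2.2.1 p.2.2.2⟩) ?_
        intro p p' hpp
        have h1 : p.1.1 = p'.1.1 := congrArg Subtype.val hpp
        refine Subtype.ext (Prod.ext h1 (mul_left_cancel (a := p.1.1) ?_))
        rw [p.2.2.2, h1, p'.2.2.2]
      have hcard : Nat.card {g : G // g * g = 1 ∧ g ≠ 1 ∧ g ≠ D.z ∧ g * D.z = D.z * g} ≤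
          Fintype.card {x : E192 // Par.emul ⟨false, 0, 0, 1⟩ x x = e0 ∧ x ≠ e0 ∧ x ≠ ez} := by
        rw [← Nat.card_eq_fintype_card]
        choose f hf using fun g : {g : G // g * g = 1 ∧ g ≠ 1 ∧ g ≠ D.z ∧ g * D.z = D.z * g} =>
          F.nf_surj g.2.2.2.2
        refine Nat.card_le_card_of_injective (fun g => ⟨f g, F.nf_inj ?_, fun e => ?_, fun e => ?_⟩) ?_
        · rw [← hP, F.rel_sq, hf, g.2.1, F.nf_e0]
        · exact g.2.2.1 (by rw [← hf g, e, F.nf_e0])
        · exact g.2.2.2.1 (by rw [← hf g, e, F.nf_ez])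
        · intro g g' e
          have := congrArg (fun x => F.rel.nf x.1) e
          simp only [hf] at this
          exact Subtype.ext this
      rw [invol_count] at hcard
      omega
    · have hP : F.par.emul = Par.emul ⟨false, 1, 0, 1⟩ := by rw [Frame.par, h, he1, hp, hr]
      rw [hroot _ hP, roots_card_twenty] at hroots
      omega
  refine ⟨hinv, htwo.resolve_right fun he1 => ?_⟩
  have hP : F.par.emul = Par.emul ⟨true, 1, F.p, F.r⟩ := by rw [Frame.par, hinv, he1]
  rw [hroot _ hP, Cfsg.Lib.M12Nse.roots_card F.p F.r F.pr] at hroots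
  omega

end Blk

omit [Fintype G] [Fact (Nat.Prime 11)] in
/-- A simple group of order 95040 is isomorphic to the stabiliser of a dodecad. -/
theorem iso_dodecad [Finite G] (hG : Nat.card G = 95040) {d : Finset Cfsg.GolayPt} (hd : d ∈ Cfsg.dodecads) :
    Nonempty (G ≃* ↥(MulAction.stabilizer Cfsg.M24 d)) := by
  classical
  have := Fintype.ofFinite G
  haveI : Fact (Nat.Prime 11) := ⟨by norm_num⟩
  obtain ⟨B⟩ := exists_blk hG
  obtain ⟨y, u, z, S⟩ := B.exists_census
  obtain ⟨f⟩ := Blk.iso_of_census S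
  obtain ⟨g⟩ := Cfsg.Lib.Golay.dodecadStabEquiv hd
  exact ⟨f.trans g.symm⟩

end Cfsg.Lib.M12Order
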