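import Cfsg.Agent.Blocks.DegreeEquation.Check

/-!
Finite searches for a simple group of order 95040: the principal 11-block, the values on
involutions and on elements of order five and ten, and the characters outside the block.
-/

set_option autoImplicit false
set_option maxRecDepth 100000

namespace Cfsg.Lib.M12Order

open Cfsg.Lib.Blocks.DegreeEquation

/-- four signed integers -/
abbrev V4 : Type := ℤ × ℤ × ℤ × ℤ

/-- the list of the entries -/
def ls (v : V4) : List ℤ := [v.1, v.2.1, v.2.2.1, v.2.2.2]

theorem sylow_eleven_num : ∀ n ∈ Nat.divisors 8640, n % 11 = 1 → checkN 11 8640 309 n = false →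
    n = 144 ∨ n = 1728 := by decide +kernel

theorem inertia_num : ∀ e ∈ Nat.divisors 10, 2 ≤ e → e ∣ 60 → e ≠ 10 →
    ((sums (terms 11 (144 * e) 95040 (60 / e) 309 1) (e - 1)).all fun s =>
      !(terms 11 (144 * e) 95040 (60 / e) 309 (e : ℤ)).contains (1 + s)) = true := by decide +kernel

/-- the signed degrees in the principal block -/
def degL : List ℤ := terms 11 8640 95040 1 309 1

/-- the signed exceptional degree -/
def excL : List ℤ := terms 11 8640 95040 1 309 5

/-- the sorted solutions of the degree equation -/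
def zOpts : List V4 :=
  [(-120, -54, -32, 45), (-120, -54, 45, 144), (-120, -10, 12, 45), (-120, -10, 12, 144),
    (-120, -10, 45, 144), (-120, 45, 45, 45), (-54, -54, -10, 45), (-54, -54, -10, 144),
    (-54, -32, -32, 45), (-54, -32, -32, 144), (-54, -10, 12, 45), (-54, -10, 45, 45),
    (-54, 12, 12, 45), (-32, -32, 12, 45), (-32, -32, 45, 45), (-32, -10, -10, 45),
    (-32, -10, 12, 45), (-10, -10, -10, 45), (-10, 12, 12, 12), (-10, 12, 12, 45)]

/-- the special solution -/
def zSp : V4 := (-120, -54, 45, 144)

theorem zOpts_num : degL.all (fun a => degL.all fun b => !decide (a ≤ b) ||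
    degL.all fun c => !decide (b ≤ c) || degL.all fun d => !decide (c ≤ d) ||
      !excL.contains (1 + (a + b + c + d)) ||
        decide (95040 < 1 + (a * a + b * b + c * c + d * d) + 2 * ((1 + (a + b + c + d)) * (1 + (a + b + c + d)))) ||
        zOpts.contains (a, b, c, d)) = true := by decide +kernel

/-- the sign -/
def sgn (x : ℤ) : ℤ := if 0 < x then 1 else -1

/-- the signed exceptional degree of a solution -/
def aOf (z : V4) : ℤ := 1 + (z.1 + z.2.1 + z.2.2.1 + z.2.2.2)

/-- the exceptional value determined by the others -/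
def lin (z : V4) (k : ℤ) (r : V4) : ℤ :=
  sgn (aOf z) * (k + (sgn z.1 * r.1 + sgn z.2.1 * r.2.1 + sgn z.2.2.1 * r.2.2.1 + sgn z.2.2.2 * r.2.2.2))

/-- the common denominator -/
def den (z : V4) : ℤ :=
  ((aOf z).natAbs : ℤ) * (z.1.natAbs * (z.2.1.natAbs * (z.2.2.1.natAbs * z.2.2.2.natAbs)))

/-- the sum of the values divided by the degrees -/
def base (z : V4) (k : ℤ) (r : V4) : ℤ :=
  k * den z + (r.1 * (den z / z.1.natAbs) + r.2.1 * (den z / z.2.1.natAbs) +
    r.2.2.1 * (den z / z.2.2.1.natAbs) + r.2.2.2 * (den z / z.2.2.2.natAbs))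

/-- integrality of the numbers of pairs of elements of order eleven with product in a class -/
def multOK (z : V4) (k : ℤ) (d : ℕ) (r : V4) : Bool :=
  [6, -5].all fun m : ℤ =>
    let n := base z k r + m * lin z k r * (den z / (aOf z).natAbs)
    decide (0 ≤ n) && ((8640 * n) % (11 * d * den z) == 0)

/-- the square of the product of two involutions is not an element of order eleven -/
def quad (z r : V4) : ℤ :=
  let D := aOf z * (z.1 * (z.2.1 * (z.2.2.1 * z.2.2.2)))
  D + (r.1 * r.1 * (D / z.1) + r.2.1 * r.2.1 * (D / z.2.1) + r.2.2.1 * r.2.2.1 * (D / z.2.2.1) +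
    r.2.2.2 * r.2.2.2 * (D / z.2.2.2)) - lin z 1 r * lin z 1 r * (D / aOf z)

/-- the squares of the values in the block -/
def blockSq (z : V4) (k : ℤ) (r : V4) : ℤ :=
  k * k + (r.1 * r.1 + r.2.1 * r.2.1 + r.2.2.1 * r.2.2.1 + r.2.2.2 * r.2.2.2) +
    2 * (lin z k r * lin z k r)

/-- possible values of an involution -/
def rs (C : ℕ) (z : ℤ) : List ℤ :=
  ((List.range (2 * z.natAbs + 1)).map fun i : ℕ => (i : ℤ) - z.natAbs).filter fun r =>
    (((z.natAbs : ℤ) - r) % 4 == 0) && decide (r * r < C) && decide (r.natAbs < z.natAbs) && ((((95040 / C : ℕ) : ℤ) * r) % z.natAbs == 0)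

/-- the conditions on the values of an involution -/
def invOK (z : V4) (C : ℕ) (r : V4) : Bool :=
  let w := lin z 1 r
  decide (w.natAbs < (aOf z).natAbs) && ((((aOf z).natAbs : ℤ) - w) % 4 == 0) &&
    decide (blockSq z 1 r ≤ C) && ((((95040 / C : ℕ) : ℤ) * w) % (aOf z).natAbs == 0) &&
      (quad z r == 0) && multOK z 1 C r

/-- the even divisors of 8640 -/
def evenDvs : List ℕ :=
  [2, 4, 6, 8, 10, 12, 16, 18, 20, 24, 30, 32, 36, 40, 48, 54, 60, 64, 72, 80, 90, 96, 108,
    120, 144, 160, 180, 192, 216, 240, 270, 288, 320, 360, 432, 480, 540, 576, 720, 864,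
    960, 1080, 1440, 1728, 2160, 2880, 4320, 8640]

theorem mem_evenDvs : ∀ C ∈ Nat.divisors 8640, C % 2 = 0 → C ∈ evenDvs := by decide +kernel

/-- quadruples from four lists -/
def quads (l₁ l₂ l₃ l₄ : List ℤ) : List V4 :=
  l₁.flatMap fun a => l₂.flatMap fun b => l₃.flatMap fun c => l₄.map fun d => (a, b, c, d)

theorem mem_quads {l₁ l₂ l₃ l₄ : List ℤ} {v : V4} (h₁ : v.1 ∈ l₁) (h₂ : v.2.1 ∈ l₂) (h₃ : v.2.2.1 ∈ l₃)
    (h₄ : v.2.2.2 ∈ l₄) : v ∈ quads l₁ l₂ l₃ l₄ := by
  obtain ⟨a, b, c, d⟩ := v
  simp only [quads, List.mem_flatMap, List.mem_map]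
  exact ⟨a, h₁, b, h₂, c, h₃, d, h₄, rfl⟩

/-- the possible values of an involution with given centraliser -/
def invSols (z : V4) (C : ℕ) : List V4 :=
  (quads (rs C z.1) (rs C z.2.1) (rs C z.2.2.1) (rs C z.2.2.2)).filter (invOK z C)

theorem five_invol_num : zOpts.all (fun z => evenDvs.all fun C =>
    !decide (5 ∣ C) || (invSols z C).all fun r =>
      decide (z = zSp ∧ (C = 120 ∨ C = 240) ∧ r = (0, 6, 5, 4) ∧ lin z 1 r = 4)) = true := by
  decide +kernel

theorem central_invol_num : evenDvs.all (fun C =>
    !decide (64 ∣ C) || (invSols zSp C).all fun r =>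
      decide (C = 192 ∧ r = (-8, 6, -3, 0) ∧ lin zSp 1 r = 0)) = true := by
  decide +kernel

/-- values congruent to given ones modulo five, vanishing when five divides the degree -/
def cs (B : ℕ) (z t : ℤ) : List ℤ :=
  if z % 5 = 0 then [0] else
    ((List.range (2 * B + 1)).map fun i : ℕ => (i : ℤ) - B).filter fun s =>
      ((s - t) % 5 == 0) && decide (s * s ≤ B)

/-- the possible values on a class of elements of order a multiple of five -/
def fiveSols (z : V4) (k : ℤ) (B d : ℕ) (t : V4) (tw : ℤ) : List V4 :=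
  (quads (cs B z.1 t.1) (cs B z.2.1 t.2.1) (cs B z.2.2.1 t.2.2.1) (cs B z.2.2.2 t.2.2.2)).filter fun s =>
    decide (lin z k s ∈ cs B (aOf z).natAbs tw) && decide (blockSq z k s ≤ B) && multOK z k d s

/-- the degrees -/
def absV (z : V4) : V4 := (z.1.natAbs, z.2.1.natAbs, z.2.2.1.natAbs, z.2.2.2.natAbs)

theorem y_num : [10, 20].all (fun C => (fiveSols zSp 1 C C (absV zSp) 16).all fun s =>
      decide (s = (0, -1, 0, -1) ∧ lin zSp 1 s = 1)) = true ∧
    [60, 120].all (fun C => (fiveSols zSp 1 C C (absV zSp) 16).isEmpty) = true := by decide +kernel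

theorem yu_num : [10, 20].all (fun C => (fiveSols zSp 1 C C (0, 6, 5, 4) 4).all fun s =>
    decide (s = (0, 1, 0, -1) ∧ lin zSp 1 s = -1)) = true := by decide +kernel

/-- the sum of the numbers of products of an involution and an element of order eleven in two classes -/
def invCount (z : V4) (Ci : ℕ) (r s : V4) : Bool :=
  let n := 2 * den z + (sgn z.1 * s.1 * r.1 * (den z / z.1.natAbs) + sgn z.2.1 * s.2.1 * r.2.1 * (den z / z.2.1.natAbs) +
    sgn z.2.2.1 * s.2.2.1 * r.2.2.1 * (den z / z.2.2.1.natAbs) +
    sgn z.2.2.2 * s.2.2.2 * r.2.2.2 * (den z / z.2.2.2.natAbs)) -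
      sgn (aOf z) * lin z 2 s * lin z 1 r * (den z / (aOf z).natAbs)
  decide (0 ≤ n) && ((8640 * n) % (Ci * 45 * den z) == 0)

/-- twice the degrees -/
def dblV (z : V4) : V4 := (2 * z.1.natAbs, 2 * z.2.1.natAbs, 2 * z.2.2.1.natAbs, 2 * z.2.2.2.natAbs)

theorem forty_five_num : zOpts.all (fun z => (fiveSols z 2 90 45 (dblV z) (2 * (aOf z).natAbs)).all fun s =>
    evenDvs.all fun C => !decide (9 ∣ C) ||
      (invSols z C).all fun r => !invCount z C r s) = true := by decide +kernel

section Search

variable {α : Type*}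

/-- add copies of an element while the bounds hold -/
def grow (fits : List α → Bool) (next : List α → List (List α)) (o : α) : ℕ → List α → List (List α)
  | 0, acc => next acc
  | n + 1, acc => if fits acc then next acc ++ grow fits next o n (o :: acc) else []

/-- the multisets within the bounds satisfying a condition -/
def msearch (fits f : List α → Bool) : List α → List α → List (List α)
  | [], acc => if f acc then [acc] else []
  | o :: os, acc => grow fits (msearch fits f os) o 450 acc

theorem mem_grow {fits : List α → Bool} {next : List α → List (List α)} {o : α} :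
    ∀ (n m : ℕ) (acc : List α), m ≤ n → (∀ i ≤ m, fits (List.replicate i o ++ acc) = true) →
      ∀ x ∈ next (List.replicate m o ++ acc), x ∈ grow fits next o n acc
  | 0, m, acc, h, _, x, hx => by
    obtain rfl : m = 0 := by omega
    simpa [grow] using hx
  | n + 1, m, acc, h, hf, x, hx => by
    rw [grow, if_pos (by simpa using hf 0 (Nat.zero_le m)), List.mem_append]
    rcases m with - | m
    · exact Or.inl (by simpa using hx)
    · have e : ∀ i, List.replicate (i + 1) o ++ acc = List.replicate i o ++ o :: acc := fun i => by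
        rw [List.replicate_succ', List.append_assoc, List.singleton_append]
      refine Or.inr (mem_grow n m (o :: acc) (by omega) (fun i hi => e i ▸ hf (i + 1) (by omega)) x ?_)
      rwa [← e]

theorem exists_msearch [DecidableEq α] {fits f : List α → Bool} : ∀ (os acc : List α) (s : Multiset α),
    (∀ x ∈ s, x ∈ os) → (∀ x, s.count x ≤ 450) →
    (∀ l : List α, (l : Multiset α) ≤ s + acc → fits l = true) →
    (∀ l : List α, (l : Multiset α) = s + acc → f l = true) →
    ∃ l ∈ msearch fits f os acc, (l : Multiset α) = s + acc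
  | [], acc, s, hs, _, _, hf => by
    obtain rfl : s = 0 := Multiset.eq_zero_of_forall_notMem fun x hx => absurd (hs x hx) List.not_mem_nil
    exact ⟨acc, by simp [msearch, hf acc (zero_add _).symm], (zero_add _).symm⟩
  | o :: os, acc, s, hs, hc, hfit, hf => by
    set m := s.count o
    have hsplit : s = Multiset.replicate m o + s.filter (· ≠ o) := by
      rw [← Multiset.filter_eq' s o, Multiset.filter_add_not]
    have heq : s.filter (· ≠ o) + (↑(List.replicate m o ++ acc) : Multiset α) = s + acc := by
      rw [← Multiset.coe_add, Multiset.coe_replicate, ← add_assoc, add_comm (s.filter (· ≠ o)), ← hsplit]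
    obtain ⟨l, hl, hle⟩ := exists_msearch os (List.replicate m o ++ acc) (s.filter (· ≠ o))
      (fun x hx => ((List.mem_cons.1 (hs x (Multiset.mem_filter.1 hx).1)).resolve_left (Multiset.mem_filter.1 hx).2))
      (fun x => (Multiset.count_le_of_le x (Multiset.filter_le _ _)).trans (hc x))
      (fun l hl => hfit l (heq ▸ hl)) (fun l hl => hf l (heq ▸ hl))
    refine ⟨l, mem_grow 450 m acc (hc o) (fun i hi => hfit _ ?_) l hl, hle.trans heq⟩
    rw [← Multiset.coe_add, Multiset.coe_replicate, hsplit]
    refine add_le_add_left (le_trans ?_ (Multiset.le_add_right _ _)) _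
    exact Multiset.le_count_iff_replicate_le.1 (by rw [Multiset.count_replicate_self]; exact hi)

end Search

/-- the residue of absolute value at most two modulo five -/
def bal (x : ℤ) : ℤ := (x + 2) % 5 - 2

/-- the possible degrees and values on the involution of the second class, outside the block -/
def restOpts : List (ℤ × ℤ) :=
  ([18, 16, 12, 9, 8, 6, 4, 3, 2, 1, 20, 15, 10, 5] : List ℤ).flatMap fun k =>
    (((List.range 23).map fun i : ℕ => (i : ℤ) - 11).filter fun b =>
      ((11 * k - b) % 4 == 0) && decide (b.natAbs ≤ 11 * k.natAbs) && (36 * b % k == 0) &&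
        ((bal k - bal b) % 2 == 0)).map fun b => (k, b)

/-- a sum over the list -/
def tot (g : ℤ × ℤ → ℤ) (l : List (ℤ × ℤ)) : ℤ := (l.map g).sum

/-- the bounds -/
def restFits (l : List (ℤ × ℤ)) : Bool :=
  decide (tot (fun p => p.1 * p.1) l ≤ 450) && decide (tot (fun p => bal p.1 * bal p.1) l ≤ 5) &&
    decide (tot (fun p => p.2 * p.2) l ≤ 130) && decide (tot (fun p => bal p.2 * bal p.2) l ≤ 5)

/-- the orthogonality relations -/
def restOK (l : List (ℤ × ℤ)) : Bool :=
  (tot (fun p => p.1 * p.1) l == 450) && (tot (fun p => bal p.1 * bal p.1) l == 5) &&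
    (tot (fun p => p.2 * p.2) l == 130) && (tot (fun p => bal p.2 * bal p.2) l == 5) &&
    (tot (fun p => p.1 * bal p.1) l == 15) && (tot (fun p => p.1 * p.2) l == -114) &&
    (tot (fun p => p.1 * bal p.2) l == 11) && (tot (fun p => bal p.1 * p.2) l == 1) &&
    (tot (fun p => bal p.1 * bal p.2) l == 1) && (tot (fun p => p.2 * bal p.2) l == 5)

/-- every choice of values on the central involution has the given sum and a bound on the cubes -/
def wAll : List (ℤ × ℤ) → ℤ → ℤ → ℤ → ℤ → ℤ → ℤ → Bool
  | [], sq, kw, aw, bw, s, j => !(decide (sq = 82 ∧ kw = 70 ∧ aw = 5 ∧ bw = -22)) || ((s == 16) && decide (1093248 ≤ j))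
  | (k, b) :: l, sq, kw, aw, bw, s, j => (List.range 19).all fun i : ℕ =>
      let w := (i : ℤ) - 9
      !(((11 * k - w) % 4 == 0) && (495 * w % (11 * k) == 0) && decide (sq + w * w ≤ 82)) ||
        wAll l (sq + w * w) (kw + k * w) (aw + bal k * w) (bw + b * w) (s + w) (j + w * w * w * (8640 / k))

/-- the properties of the lists of values outside the block, from one search -/
theorem rest_both_num : (msearch restFits restOK restOpts []).all (fun l =>
    decide (tot (fun p => p.1) l ≤ 46) ||
      (((tot (fun p => p.1) l == 48) && (tot (fun p => p.2) l == -16) &&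
        (tot (fun p => p.2 * p.2 * p.2 * (8640 / p.1)) l == -389760) && wAll l 0 0 0 0 0 0) &&
      ((l.any fun p => p.1 % 5 == 0) && (l.any fun p => p.1 % 3 == 0)))) = true := by
  decide +kernel

theorem all_split {α : Type*} {l : List α} {a b c : α → Bool}
    (h : l.all (fun x => a x || (b x && c x)) = true) :
    l.all (fun x => a x || b x) = true ∧ l.all (fun x => a x || c x) = true := by
  simp only [List.all_eq_true, Bool.or_eq_true, Bool.and_eq_true] at h ⊢
  exact ⟨fun x hx => (h x hx).imp_right And.left, fun x hx => (h x hx).imp_right And.right⟩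

theorem rest_num : (msearch restFits restOK restOpts []).all (fun l =>
    decide (tot (fun p => p.1) l ≤ 46) ||
      ((tot (fun p => p.1) l == 48) && (tot (fun p => p.2) l == -16) &&
        (tot (fun p => p.2 * p.2 * p.2 * (8640 / p.1)) l == -389760) && wAll l 0 0 0 0 0 0)) = true :=
  (all_split rest_both_num).1

/-- In the solutions with the maximal number of roots of the identity, some degree outside the block is
divisible by 55 and some by 33. -/
theorem rest_graph_num : (msearch restFits restOK restOpts []).all (fun l =>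
    decide (tot (fun p => p.1) l ≤ 46) ||
      ((l.any fun p => p.1 % 5 == 0) && (l.any fun p => p.1 % 3 == 0))) = true :=
  (all_split rest_both_num).2

end Cfsg.Lib.M12Order
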