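import Cfsg.Agent.M12Order.Invol
import Cfsg.Agent.Blocks.Eigen
import Cfsg.Agent.Blocks.Defect
import Cfsg.Agent.Chars.Galois

/-!
Rationality and congruences for the values on elements of order a multiple of five.
-/

set_option autoImplicit false
set_option linter.unusedSectionVars false
set_option linter.style.haveILetI false

namespace Cfsg.Lib.M12Order

open Cfsg.Lib.Chars Cfsg.Lib.Blocks Cfsg.Lib.Blocks.SmallOrder
open scoped ComplexConjugate _root_.Classical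

universe u

variable {G : Type u} [Group G] [Fintype G]

theorem isIntegral_value_irr (χ : IrrCharacter G) (g : G) : IsIntegral ℤ ((χ : G → ℂ) g) := by
  obtain ⟨n, ρ, hρ⟩ := isCharacter_of_irr χ.2
  rw [← hρ]
  exact isIntegral_character ρ g

/-- A Galois invariant sum of values is an integer. -/
theorem exists_int_of_fixed (χ : IrrCharacter G) (S : Finset G) {m : ℕ} [NeZero m]
    (hm : ∀ h ∈ S, orderOf h ∣ m)
    (hfix : ∀ (σ : ℂ ≃+* ℂ) (k : ℕ), k.Coprime m → IsGalConj σ m k →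
      σ (∑ h ∈ S, (χ : G → ℂ) h) = ∑ h ∈ S, (χ : G → ℂ) h) :
    ∃ r : ℤ, ∑ h ∈ S, (χ : G → ℂ) h = (r : ℂ) := by
  obtain ⟨q, hq⟩ := rat_of_galConj_fixed
    (sum_mem fun h hh => IsCharacter.mem_cycField (isCharacter_of_irr χ.2) (hm h hh)) hfix
  obtain ⟨z, hz⟩ := int_of_isIntegral_rat (q := q) (hq ▸ IsIntegral.sum _ fun h _ => isIntegral_value_irr χ h)
  exact ⟨z, by rw [hq, hz]; norm_num⟩

theorem degs_inj : ∀ i j : Fin 4, (![120, 54, 45, 144] : Fin 4 → ℕ) i = ![120, 54, 45, 144] j → i = j := by decide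

theorem degs_ne : ∀ i : Fin 4, (![120, 54, 45, 144] : Fin 4 → ℕ) i ≠ 1 ∧ (![120, 54, 45, 144] : Fin 4 → ℕ) i ≠ 16 ∧
    ¬ 11 ∣ (![120, 54, 45, 144] : Fin 4 → ℕ) i := by decide

theorem five_not_dvd {u : G} (hu : orderOf u = 2 ∨ u = 1) : ¬ 5 ∣ orderOf u := by
  rcases hu with e | e
  · rw [e]; norm_num
  · rw [e, orderOf_one]; norm_num

/-- Values of an element of order five times a commuting regular element are congruent to those of the latter. -/
theorem congr_five {χ : IrrCharacter G} {y u : G} (hy : orderOf y = 5) (hc : Commute y u)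
    (hu : ¬ 5 ∣ orderOf u) {M : Ideal AlgInt} (hM : IsPModular 5 M) :
    Small M ((χ : G → ℂ) (y * u) - (χ : G → ℂ) u) :=
  small_apply_mul_sub hM (isCharacter_of_irr χ.2) hc ⟨1, by rw [pow_one, hy]⟩ hu

variable [IsSimpleGroup G] [Fact (Nat.Prime 11)]

namespace Blk

variable {B : Blk G}

/-- Characters of degree a multiple of five vanish at elements of order a multiple of five. -/
theorem vanish_five (B : Blk G) {χ : IrrCharacter G} (hd : 5 ∣ deg (χ : G → ℂ)) {g : G} (hg : 5 ∣ orderOf g) :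
    (χ : G → ℂ) g = 0 :=
  eq_zero_of_defect_zero (p := 5) (n := 1) χ.2 (by norm_num) (by rw [B.card]; norm_num)
    (by rw [B.card]; norm_num) (by rwa [pow_one]) hg

/-- With four different degrees the values in the block are integers. -/
theorem exists_int_value (hz : v4 B.z = zSp) {g : G} (i : Fin 4) :
    ∃ r : ℤ, (B.c i : G → ℂ) g = (r : ℂ) := by
  haveI : NeZero (orderOf g) := ⟨(orderOf_pos g).ne'⟩
  suffices h : ∀ (σ : ℂ ≃+* ℂ), σ ((B.c i : G → ℂ) g) = (B.c i : G → ℂ) g by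
    obtain ⟨r, hr⟩ := exists_int_of_fixed (B.c i) {g} (m := orderOf g)
      (fun h hh => by rw [Finset.mem_singleton.1 hh]) (fun σ k _ _ => by rw [Finset.sum_singleton]; exact h σ)
    exact ⟨r, by rw [← hr, Finset.sum_singleton]⟩
  intro σ
  have hdeg : ∀ j, deg (B.c j : G → ℂ) = ![120, 54, 45, 144] j := fun j => by
    rw [← (B.sign_eq j).2]
    simp only [v4, zSp, Prod.mk.injEq] at hz
    obtain ⟨e0, e1, e2, e3⟩ := hz
    fin_cases j <;> simp [e0, e1, e2, e3]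
  have hdν : deg (B.ν 1 : G → ℂ) = 16 := by
    rw [← B.exc_sign.2, hz]; rfl
  set χ' : IrrCharacter G := ⟨fun h => σ ((B.c i : G → ℂ) h), IsIrrCharacter.map_auto (B.c i).2 σ⟩
  have hd' : deg (χ' : G → ℂ) = deg (B.c i : G → ℂ) := by
    apply Nat.cast_injective (R := ℂ)
    rw [← irr_apply_one_eq_deg, ← map_natCast σ, ← irr_apply_one_eq_deg (B.c i)]
  have key : χ' = B.c i := by
    by_cases h1 : χ' ∈ insert (oneG G) (Finset.univ.image B.c)
    · rcases Finset.mem_insert.1 h1 with h | h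
      · rw [h, deg_oneG, hdeg] at hd'
        exact absurd hd'.symm (degs_ne i).1
      · obtain ⟨j, -, hj⟩ := Finset.mem_image.1 h
        rw [← hj, hdeg, hdeg] at hd'
        rw [← hj]
        rw [degs_inj j i hd']
    by_cases h2 : χ' ∈ Finset.univ.image B.ν
    · rw [B.deg_exc_eq h2, hdν, hdeg] at hd'
      exact absurd hd'.symm (degs_ne i).2.1
    · have h11 := B.rest_dvd_deg (η := χ') (Finset.mem_sdiff.2 ⟨Finset.mem_univ _, fun hu => (Finset.mem_union.1 hu).elim h1 h2⟩)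
      rw [hd', hdeg] at h11
      exact absurd h11 (degs_ne i).2.2
  exact congrArg (fun χ : IrrCharacter G => (χ : G → ℂ) g) key

theorem deg_special (hz : v4 B.z = zSp) :
    (∀ j, deg (B.c j : G → ℂ) = ![120, 54, 45, 144] j) ∧ deg (B.ν 1 : G → ℂ) = 16 ∧
      (∀ j, sgn (B.z j) = ![-1, -1, 1, 1] j) ∧ B.δ = 1 := by
  refine ⟨fun j => ?_, by rw [← B.exc_sign.2, hz]; rfl, fun j => ?_, by rw [B.exc_sign.1, hz]; rfl⟩
  · rw [← (B.sign_eq j).2]
    simp only [v4, zSp, Prod.mk.injEq] at hz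
    obtain ⟨e0, e1, e2, e3⟩ := hz
    fin_cases j <;> simp [e0, e1, e2, e3]
  · simp only [v4, zSp, Prod.mk.injEq] at hz
    obtain ⟨e0, e1, e2, e3⟩ := hz
    fin_cases j <;> simp [e0, e1, e2, e3, sgn]

theorem small_exc_natAbs {M : Ideal AlgInt} (hM : IsPModular 5 M) {n m : ℤ}
    (h : Small M ((n : ℂ) - (m : ℂ))) : (5 : ℤ) ∣ n - m := by
  rw [← Int.cast_sub] at h
  exact_mod_cast (small_intCast_iff hM _).1 h

theorem mem_cs {Bd : ℕ} {z t s : ℤ} (h0 : (5 : ℤ) ∣ z → s = 0) (hc : ¬ (5 : ℤ) ∣ z → (5 : ℤ) ∣ s - t)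
    (hb : s * s ≤ Bd) : s ∈ cs Bd z t := by
  rw [cs]
  split_ifs with h
  · exact List.mem_singleton.2 (h0 (Int.dvd_of_emod_eq_zero h))
  · have h5 : ¬ (5 : ℤ) ∣ z := fun hd => h (Int.emod_eq_zero_of_dvd hd)
    have habs : s.natAbs ≤ Bd := by
      rcases Nat.eq_zero_or_pos s.natAbs with e | e
      · omega
      · have h1 : s.natAbs ≤ s.natAbs * s.natAbs := Nat.le_mul_of_pos_left _ e
        have h2 : ((s.natAbs * s.natAbs : ℕ) : ℤ) = s * s := Int.natAbs_mul_self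
        omega
    refine List.mem_filter.2 ⟨List.mem_map.2 ⟨(s + Bd).toNat, List.mem_range.2 (by omega), by omega⟩, ?_⟩
    simp only [Bool.and_eq_true, decide_eq_true_eq, beq_iff_eq]
    exact ⟨Int.emod_eq_zero_of_dvd (hc h5), hb⟩

/-- The values of a family of elements of order a multiple of five are in the table. -/
theorem Vals.mem_fiveSols {S : Finset G} {r : Fin 4 → ℤ} (V : B.Vals S r)
    (h5 : ∀ h ∈ S, 5 ∣ orderOf h)
    (hS : ∀ h ∈ S, ∀ h' ∈ S, IsConj h h' → h = h') {C : ℕ}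
    (hC : ∀ h ∈ S, Nat.card ↥(Subgroup.centralizer ({h} : Set G)) = C)
    {t : Fin 4 → ℤ} {tw : ℤ} {M : Ideal AlgInt} (hM : IsPModular 5 M)
    (ht : ∀ i, Small M (∑ h ∈ S, (B.c i : G → ℂ) h - (t i : ℂ)))
    (htw : Small M (∑ h ∈ S, (B.ν 1 : G → ℂ) h - (tw : ℂ))) :
    v4 r ∈ fiveSols (v4 B.z) S.card (S.card * C) C (v4 t) tw := by
  have hblock := V.blockSq_le hS hC
  have hmult := V.multOK (fun h hh e => by
    have := h5 h hh
    rw [e, orderOf_one] at this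
    norm_num at this) (d := C) (fun h hh => by rw [hC h hh])
  simp only [fiveSols, List.mem_filter, Bool.and_eq_true, decide_eq_true_eq]
  have hw := V.exc
  set w := lin (v4 B.z) S.card (v4 r)
  have hsq : ∀ i, r i * r i ≤ ((S.card * C : ℕ) : ℤ) := fun i => by
    have hle : r i * r i ≤ ∑ j, r j * r j := Finset.single_le_sum (f := fun j => r j * r j)
      (fun j _ => mul_self_nonneg _) (Finset.mem_univ i)
    simp only [blockSq, v4] at hblock
    rw [Fin.sum_univ_four] at hle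
    have := mul_self_nonneg (lin (B.z 0, B.z 1, B.z 2, B.z 3) (S.card : ℤ) (r 0, r 1, r 2, r 3))
    have := mul_self_nonneg (S.card : ℤ)
    linarith
  have hwsq : w * w ≤ ((S.card * C : ℕ) : ℤ) := by
    have h1 : w * w + w * w + (r 0 * r 0 + r 1 * r 1 + r 2 * r 2 + r 3 * r 3) ≤ blockSq (v4 B.z) S.card (v4 r) := by
      simp only [blockSq, v4, w]
      nlinarith [mul_self_nonneg (S.card : ℤ)]
    nlinarith [mul_self_nonneg w, mul_self_nonneg (r 0), mul_self_nonneg (r 1), mul_self_nonneg (r 2),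
      mul_self_nonneg (r 3), hblock]
  have hmem : ∀ i, r i ∈ cs (S.card * C) (B.z i) (t i) := fun i => by
    refine mem_cs (fun hd => ?_) (fun _ => small_exc_natAbs hM (by rw [← V.eq i]; exact ht i)) (hsq i)
    have hd' : 5 ∣ deg (B.c i : G → ℂ) := by
      rw [← (B.sign_eq i).2]
      exact Int.natCast_dvd.1 hd
    apply Int.cast_injective (α := ℂ)
    rw [← V.eq i, Int.cast_zero]
    exact Finset.sum_eq_zero fun h hh => B.vanish_five hd' (h5 h hh)
  refine ⟨mem_quads (hmem 0) (hmem 1) (hmem 2) (hmem 3), ⟨mem_cs (fun hd => ?_)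
    (fun _ => small_exc_natAbs hM (by rw [← hw]; exact htw)) hwsq, hblock⟩, hmult⟩
  have hd' : 5 ∣ deg (B.ν 1 : G → ℂ) := by
    rw [← B.exc_sign.2]
    exact Int.natCast_dvd_natCast.1 hd
  apply Int.cast_injective (α := ℂ)
  rw [← hw, Int.cast_zero]
  exact Finset.sum_eq_zero fun h hh => B.vanish_five hd' (h5 h hh)

/-- Products of the classes of the element of order eleven and of an involution. -/
theorem count_invol {t h : G} (hh : ¬ 11 ∣ orderOf h) (ht : t * t = 1) {ri : Fin 4 → ℤ} {wi : ℤ}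
    (hr : ∀ i, (B.c i : G → ℂ) t = (ri i : ℂ)) (hwi : (B.ν 1 : G → ℂ) t = (wi : ℂ)) :
    (Nat.card {w : G × G // IsConj B.x w.1 ∧ IsConj t w.2 ∧ w.1 * w.2 = h⁻¹} : ℂ) *
        (Nat.card ↥(Subgroup.centralizer ({t} : Set G)) : ℂ) =
      (8640 : ℂ) * (1 + ∑ i, (sgn (B.z i) : ℂ) * (B.c i : G → ℂ) h * (ri i : ℂ) / (deg (B.c i : G → ℂ) : ℂ) -
        (B.δ : ℂ) * (B.ν 1 : G → ℂ) h * (wi : ℂ) / (deg (B.ν 1 : G → ℂ) : ℂ)) := by
  have hreg := regular_of_invol ht
  have hcv : ∀ (η : IrrCharacter G), conj ((η : G → ℂ) h⁻¹) = (η : G → ℂ) h := fun η => by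
    rw [IsCharacter.conj_inv (isCharacter_of_irr η.2), Complex.conj_conj]
  have hmul := congrArg (Nat.cast (R := ℂ)) (Cfsg.Lib.M12Nse.card_isConj_mul t)
  push_cast at hmul
  rw [B.card] at hmul
  push_cast at hmul
  rw [class_mult_formula B.x t h⁻¹, B.card_class_x, B.card,
    Finset.sum_congr rfl fun η _ => by rw [hcv η], B.sum_split,
    Finset.sum_congr rfl (g := fun i : Fin 4 =>
      (sgn (B.z i) : ℂ) * (B.c i : G → ℂ) h * (ri i : ℂ) / (deg (B.c i : G → ℂ) : ℂ))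
      (fun i _ => by rw [irr_apply_one_eq_deg, B.apply_x, hr i]; ring),
    Finset.sum_congr rfl (g := fun η : IrrCharacter G =>
      (η : G → ℂ) B.x * ((B.ν 1 : G → ℂ) h * (wi : ℂ) / (deg (B.ν 1 : G → ℂ) : ℂ)))
      (fun η hη => by rw [B.apply_exc hη hh, B.apply_exc hη hreg, hwi, irr_apply_one_eq_deg, B.deg_exc_eq hη]; ring),
    Finset.sum_eq_zero (s := B.rest) (fun η hη => by rw [B.rest_apply_x hη, zero_mul, zero_mul, zero_div]),
    ← Finset.sum_mul, B.sum_exc_x, oneG_apply, oneG_apply, oneG_apply, oneG_apply]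
  push_cast
  linear_combination ((8640 : ℂ) / 95040 * (1 + ∑ i, (sgn (B.z i) : ℂ) * (B.c i : G → ℂ) h * (ri i : ℂ) / (deg (B.c i : G → ℂ) : ℂ) -
        (B.δ : ℂ) * ((B.ν 1 : G → ℂ) h * (wi : ℂ) / (deg (B.ν 1 : G → ℂ) : ℂ)))) * hmul

/-- The integrality test for an involution and two classes of elements of order five. -/
theorem Vals.invCount_ok {S : Finset G} {r : Fin 4 → ℤ} (V : B.Vals S r) (h2 : S.card = 2)
    (hd : ∀ h ∈ S, h ≠ 1 ∧ 45 ∣ Nat.card ↥(Subgroup.centralizer ({h} : Set G)))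
    {t : G} (ht : t * t = 1) {ri : Fin 4 → ℤ} (hr : ∀ i, (B.c i : G → ℂ) t = (ri i : ℂ))
    (hwi : (B.ν 1 : G → ℂ) t = (lin (v4 B.z) 1 (v4 ri) : ℂ)) :
    invCount (v4 B.z) (Nat.card ↥(Subgroup.centralizer ({t} : Set G))) (v4 ri) (v4 r) = true := by
  set Ct := Nat.card ↥(Subgroup.centralizer ({t} : Set G))
  set wi := lin (v4 B.z) 1 (v4 ri)
  set N : G → ℕ := fun h => Nat.card {w : G × G // IsConj B.x w.1 ∧ IsConj t w.2 ∧ w.1 * w.2 = h⁻¹}
  have hdN : ∀ h ∈ S, 45 ∣ N h := fun h hh => by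
    refine ((hd h hh).2.trans (by rw [centralizer_inv])).trans (dvd_card_pairs fun g hg a ha hga =>
      free_x (B := B) (h := h⁻¹) (by rw [orderOf_inv]; exact V.regular h hh) (inv_ne_one.2 (hd h hh).1) hg ha hga)
  obtain ⟨q, hq⟩ := Finset.dvd_sum hdN
  have e : ∑ h ∈ S, (N h : ℂ) * (Ct : ℂ) = ((45 * q : ℕ) : ℂ) * (Ct : ℂ) := by
    rw [← Finset.sum_mul, ← hq]; push_cast; rfl
  rw [Finset.sum_congr rfl fun h hh => count_invol (B := B) (V.regular h hh) ht hr hwi, ← Finset.mul_sum,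
    Finset.sum_sub_distrib, Finset.sum_add_distrib, Finset.sum_const, h2, Finset.sum_comm,
    Finset.sum_congr rfl (g := fun i : Fin 4 => (sgn (B.z i) : ℂ) * (r i : ℂ) * (ri i : ℂ) / (deg (B.c i : G → ℂ) : ℂ))
      (fun i _ => by rw [← V.eq i, ← Finset.sum_div, ← Finset.sum_mul, ← Finset.mul_sum]),
    ← Finset.sum_div, ← Finset.sum_mul, ← Finset.mul_sum, V.exc, h2] at e
  set w := lin (v4 B.z) ((2 : ℕ) : ℤ) (v4 r) with hw
  have hw2 : lin (v4 B.z) 2 (v4 r) = w := by rw [hw]; norm_num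
  set n := 2 * den (v4 B.z) + (∑ i, sgn (B.z i) * r i * ri i * (den (v4 B.z) / ((B.z i).natAbs : ℤ))) -
    B.δ * w * wi * (den (v4 B.z) / ((aOf (v4 B.z)).natAbs : ℤ)) with hn
  have hn' : (n : ℂ) = (den (v4 B.z) : ℂ) * ((2 : ℂ) +
      ∑ i, (sgn (B.z i) : ℂ) * (r i : ℂ) * (ri i : ℂ) / (deg (B.c i : G → ℂ) : ℂ) -
      (B.δ : ℂ) * (w : ℂ) * (wi : ℂ) / (deg (B.ν 1 : G → ℂ) : ℂ)) := by
    rw [hn, Int.cast_sub, Int.cast_add, Int.cast_sum, Int.cast_mul, Int.cast_mul, Int.cast_mul, Int.cast_mul, den_div_a,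
      Finset.sum_congr rfl (g := fun i : Fin 4 => (den (v4 B.z) : ℂ) *
        ((sgn (B.z i) : ℂ) * (r i : ℂ) * (ri i : ℂ) / (deg (B.c i : G → ℂ) : ℂ)))
        (fun i _ => by rw [Int.cast_mul, Int.cast_mul, Int.cast_mul, den_div_z]; ring), ← Finset.mul_sum]
    push_cast
    ring
  have heq : 8640 * n = (Ct : ℤ) * 45 * den (v4 B.z) * q := by
    apply Int.cast_injective (α := ℂ)
    push_cast at e ⊢
    rw [hn']
    simp only [nsmul_eq_mul, mul_one, Nat.cast_ofNat] at e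
    linear_combination (den (v4 B.z) : ℂ) * e
  have hpos : 0 < den (v4 B.z) := lt_of_le_of_ne (by simp only [den]; positivity) den_ne.symm
  have h0 : 0 ≤ (Ct : ℤ) * 45 * den (v4 B.z) * q := by positivity
  have hres : 0 ≤ n ∧ (8640 * n) % ((Ct : ℤ) * 45 * den (v4 B.z)) = 0 :=
    ⟨by linarith, by rw [heq]; exact Int.mul_emod_right _ _⟩
  have hn2 : n = 2 * den (v4 B.z) + (sgn (B.z 0) * r 0 * ri 0 * (den (v4 B.z) / ((B.z 0).natAbs : ℤ)) +
      sgn (B.z 1) * r 1 * ri 1 * (den (v4 B.z) / ((B.z 1).natAbs : ℤ)) +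
      sgn (B.z 2) * r 2 * ri 2 * (den (v4 B.z) / ((B.z 2).natAbs : ℤ)) +
      sgn (B.z 3) * r 3 * ri 3 * (den (v4 B.z) / ((B.z 3).natAbs : ℤ))) -
      sgn (aOf (v4 B.z)) * w * wi * (den (v4 B.z) / ((aOf (v4 B.z)).natAbs : ℤ)) := by
    rw [hn, Fin.sum_univ_four, ← B.exc_sign.1]
  simp only [invCount, hw2, Bool.and_eq_true, decide_eq_true_eq, beq_iff_eq]
  rw [hn2] at hres
  exact hres

end Blk

end Cfsg.Lib.M12Order
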